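import Groth.Agent.MagnetLib.Avg.Lift
import Groth.Agent.S1488

/-!
# Infinitesimal lifting of points of attractors along smooth equivariant maps
-/

set_option linter.style.haveILetI false
set_option autoImplicit false

universe u

open CategoryTheory CategoryTheory.Limits MonoidalCategory CartesianMonoidalCategory MonObj AlgebraicGeometry
open Opposite Magnet

namespace Groth.Agent.MagnetLib.Avg

/-- Lifts along square-zero thickenings of affine schemes exist for formally smooth morphisms. -/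
theorem exists_lift_affine {W₀ W X Y : Scheme.{u}} [IsAffine W₀] [IsAffine W] (t : W₀ ⟶ W)
    (hsurj : Function.Surjective t.appTop.hom) (hsq : RingHom.ker t.appTop.hom ^ 2 = ⊥) (f : X ⟶ Y)
    (hf : MoreMor.IsFormallySmoothHom f) (a : W₀ ⟶ X) (b : W ⟶ Y) (w : t ≫ b = a ≫ f) :
    ∃ l : W ⟶ X, t ≫ l = a ∧ l ≫ f = b := by
  let A := Γ(W, ⊤)
  let I : Ideal A := RingHom.ker t.appTop.hom
  let ψ : CommRingCat.of (A ⧸ I) ⟶ Γ(W₀, ⊤) := (RingHom.quotientKerEquivOfSurjective hsurj).toCommRingCatIso.hom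
  have hψ : CommRingCat.ofHom (Ideal.Quotient.mk I) ≫ ψ = t.appTop := by
    ext x
    exact RingHom.quotientKerEquivOfSurjective_apply_mk hsurj x
  let e' : Spec (CommRingCat.of A) ≅ W := W.isoSpec.symm
  let e : Spec (CommRingCat.of (A ⧸ I)) ≅ W₀ := (asIso (Spec.map ψ)).symm ≪≫ W₀.isoSpec.symm
  have he : e.hom ≫ t = Spec.map (CommRingCat.ofHom (Ideal.Quotient.mk I)) ≫ e'.hom := by
    simp only [e, e', Iso.trans_hom, Iso.symm_hom, asIso_inv, Category.assoc, IsIso.inv_comp_eq]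
    rw [← Scheme.isoSpec_inv_naturality, ← hψ, Spec.map_comp_assoc]
  obtain ⟨l, hl1, hl2⟩ := hf A I hsq (e.hom ≫ a) (e'.hom ≫ b)
    (by rw [← reassoc_of% he, w, Category.assoc])
  exact ⟨e'.inv ≫ l, by rw [← cancel_epi e.hom, reassoc_of% he, e'.hom_inv_id_assoc, hl1],
    by rw [Category.assoc, hl2, e'.inv_hom_id_assoc]⟩

variable {S : Scheme.{u}} {M : Type} [AddCommGroup M]

/-- Equivariant lifting along a smooth equivariant map. -/
theorem exists_equivariant_lift_of_smooth {Z₀ Z X Y : Over S} [IsAffine Z.left] [IsAffine Z₀.left]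
    (ρ : MonAct (AMonS S M) Z) (ρ₀ : MonAct (AMonS S M) Z₀) (aX : MonAct (AMonS S M) X) (aY : MonAct (AMonS S M) Y)
    (i : Z₀ ⟶ Z) (hi : Function.Surjective i.left.appTop.hom) (hsq : RingHom.ker i.left.appTop.hom ^ 2 = ⊥)
    (hie : MonAct.IsEquivariant ρ₀ ρ i) (f : X ⟶ Y) (hf : MonAct.IsEquivariant aX aY f) [Smooth f.left]
    (x : Z₀ ⟶ X) (hx : MonAct.IsEquivariant ρ₀ aX x) (y : Z ⟶ Y) (hy : MonAct.IsEquivariant ρ aY y)
    (w : x ≫ f = i ≫ y) :
    ∃ l : Z ⟶ X, MonAct.IsEquivariant ρ aX l ∧ i ≫ l = x ∧ l ≫ f = y := by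
  obtain ⟨l, hl1, hl2⟩ := exists_lift_affine i.left hi hsq f.left ((Groth.Agent.S1488.result f.left).mp ‹_›).2
    x.left y.left (congrArg Over.Hom.left w).symm
  exact exists_equivariant_lift ρ ρ₀ aX aY i hi hsq hie f hf x hx y hy
    (Over.homMk l (by rw [← Over.w f, ← Category.assoc, hl2, Over.w]))
    (Over.OverMorphism.ext hl1) (Over.OverMorphism.ext hl2)

theorem appTop_SpecMap_surjective {A B : CommRingCat.{u}} (φ : A ⟶ B) (h : Function.Surjective φ.hom) :
    Function.Surjective (Spec.map φ).appTop.hom := by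
  intro z
  obtain ⟨a, ha⟩ := h ((Scheme.ΓSpecIso B).hom z)
  refine ⟨(Scheme.ΓSpecIso A).inv a, ?_⟩
  have := ConcreteCategory.congr_hom (Scheme.ΓSpecIso_inv_naturality φ) a
  refine this.symm.trans ?_
  show (Scheme.ΓSpecIso B).inv (φ.hom a) = z
  rw [ha]
  exact Iso.hom_inv_id_apply (Scheme.ΓSpecIso B) z

theorem appTop_SpecMap_sq {A B : CommRingCat.{u}} (φ : A ⟶ B) (h : RingHom.ker φ.hom ^ 2 = ⊥) :
    RingHom.ker (Spec.map φ).appTop.hom ^ 2 = ⊥ := by
  rw [sq, eq_bot_iff, Ideal.mul_le]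
  intro x hx y hy
  have h0 : ∀ z, (Spec.map φ).appTop.hom z = 0 → (Scheme.ΓSpecIso A).hom z ∈ RingHom.ker φ.hom := fun z hz => by
    have := ConcreteCategory.congr_hom (Scheme.ΓSpecIso_naturality φ) z
    rw [RingHom.mem_ker]
    refine this.symm.trans ?_
    show (Scheme.ΓSpecIso B).hom ((Spec.map φ).appTop.hom z) = 0
    rw [hz, map_zero]
  have := Ideal.mul_mem_mul (h0 x hx) (h0 y hy)
  rw [← sq, h, Ideal.mem_bot, ← map_mul] at this
  exact Ideal.mem_bot.mpr ((ConcreteCategory.bijective_of_isIso (Scheme.ΓSpecIso A).hom).1 (this.trans (map_zero _).symm))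

theorem hasLift {N : AddSubmonoid M} {X Y : Over S} (aX : MonAct (AMonS S M) X) (aY : MonAct (AMonS S M) Y)
    (f : X ⟶ Y) (hf : MonAct.IsEquivariant aX aY f) [Smooth f.left] {T₀ T : Over S} [IsAffine T.left] [IsAffine T₀.left]
    (t : T₀ ⟶ T) (ht : Function.Surjective t.left.appTop.hom) (hsq : RingHom.ker t.left.appTop.hom ^ 2 = ⊥)
    (x : AMonS S N ⊗ T₀ ⟶ X) (hx : MonAct.IsEquivariant ((subAct S M N).prod (MonAct.trivial (AMonS S M) T₀)) aX x)
    (y : AMonS S N ⊗ T ⟶ Y) (hy : MonAct.IsEquivariant ((subAct S M N).prod (MonAct.trivial (AMonS S M) T)) aY y)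
    (w : x ≫ f = (AMonS S N ◁ t) ≫ y) :
    ∃ l : AMonS S N ⊗ T ⟶ X, MonAct.IsEquivariant ((subAct S M N).prod (MonAct.trivial (AMonS S M) T)) aX l ∧
      (AMonS S N ◁ t) ≫ l = x ∧ l ≫ f = y := by
  haveI := (H28.MagnetAff.theta_iso N T).1
  haveI := (H28.MagnetAff.theta_iso N T₀).1
  exact exists_equivariant_lift_of_smooth _ _ aX aY (AMonS S N ◁ t) (whiskerLeft_surjective T₀ T t ht)
    (whiskerLeft_sq T₀ T t hsq) (MonAct.prod_trivial_act_whiskerLeft _ t) f hf x hx y hy w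

end Groth.Agent.MagnetLib.Avg
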