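import Groth.Agent.MagnetLib.Avg.Pushout

/-!
# Gluing affine schemes with an action of a diagonalizable monoid

A cocartesian square of affine schemes given by a fibre product of rings with one surjective leg stays cocartesian
after multiplying with `A(M)`, so actions on the corners induce an action on the pushout.
-/

set_option linter.style.haveILetI false
set_option autoImplicit false

universe u

open CategoryTheory CategoryTheory.Limits MonoidalCategory CartesianMonoidalCategory MonObj AlgebraicGeometry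
open Opposite Magnet

namespace Groth.Agent.MagnetLib.Avg

open H23.CharPts H28.MagnetAff

variable {S : Scheme.{u}} {M : Type} [AddCommMonoid M]

/-- A fibre product of rings of functions gives a pushout of affine schemes over the base. -/
theorem isPushout_of_isFibreProd {Z₀ Z₁ Z₂ P : Over S} [IsAffine Z₀.left] [IsAffine Z₁.left] [IsAffine Z₂.left]
    [IsAffine P.left] (p : Z₀ ⟶ Z₁) (q : Z₀ ⟶ Z₂) (a : Z₁ ⟶ P) (b : Z₂ ⟶ P)
    (h : RingPO.IsFibreProd p.left.appTop.hom q.left.appTop.hom a.left.appTop.hom b.left.appTop.hom) :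
    IsPushout p q a b := by
  have e : ∀ {U V : Over S} [IsAffine U.left] [IsAffine V.left] (k : U ⟶ V),
      Spec.map (CommRingCat.ofHom k.left.appTop.hom) ≫ V.left.isoSpec.inv = U.left.isoSpec.inv ≫ k.left :=
    fun k => by rw [CommRingCat.ofHom_hom]; exact Scheme.isoSpec_inv_naturality _
  have hpo : IsPushout p.left q.left a.left b.left :=
    h.isPushout.of_iso Z₀.left.isoSpec.symm Z₁.left.isoSpec.symm Z₂.left.isoSpec.symm P.left.isoSpec.symm
      (e p) (e q) (e a) (e b)
  refine ⟨⟨Over.OverMorphism.ext hpo.w⟩, ⟨PushoutCocone.IsColimit.mk _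
    (fun c => Over.homMk (hpo.desc c.inl.left c.inr.left (congrArg Over.Hom.left c.condition)) ?_)
    (fun c => Over.OverMorphism.ext (hpo.inl_desc _ _ _)) (fun c => Over.OverMorphism.ext (hpo.inr_desc _ _ _))
    (fun c m h1 h2 => Over.OverMorphism.ext (hpo.hom_ext
      ((congrArg Over.Hom.left h1).trans (hpo.inl_desc _ _ _).symm)
      ((congrArg Over.Hom.left h2).trans (hpo.inr_desc _ _ _).symm)))⟩⟩
  apply hpo.hom_ext
  · rw [hpo.inl_desc_assoc]
    exact (Over.w c.inl).trans (Over.w a).symm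
  · rw [hpo.inr_desc_assoc]
    exact (Over.w c.inr).trans (Over.w b).symm

/-- Affine pushouts along closed immersions exist. -/
theorem exists_glue {Z₀ Z₁ Z₂ : Over S} [IsAffine Z₀.left] [IsAffine Z₁.left] [IsAffine Z₂.left] (p : Z₀ ⟶ Z₁)
    (q : Z₀ ⟶ Z₂) (hp : Function.Surjective p.left.appTop.hom) :
    ∃ (P : Over S) (_ : IsAffine P.left) (a : Z₁ ⟶ P) (b : Z₂ ⟶ P),
      RingPO.IsFibreProd p.left.appTop.hom q.left.appTop.hom a.left.appTop.hom b.left.appTop.hom ∧ IsPushout p q a b := by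
  let C : Subring (RR Z₁ × RR Z₂) :=
    RingHom.eqLocus (p.left.appTop.hom.comp (RingHom.fst _ _)) (q.left.appTop.hom.comp (RingHom.snd _ _))
  let α : C →+* RR Z₁ := (RingHom.fst _ _).comp C.subtype
  let β : C →+* RR Z₂ := (RingHom.snd _ _).comp C.subtype
  have hC : RingPO.IsFibreProd p.left.appTop.hom q.left.appTop.hom α β :=
    { surj := hp
      comm := fun z => z.2
      ext := fun z z' h1 h2 => Subtype.ext (Prod.ext h1 h2)
      exists_of_eq := fun b a h => ⟨⟨(a, b), h⟩, rfl, rfl⟩ }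
  let gm := Scheme.ΓSpecIso (CommRingCat.of C)
  obtain ⟨a', ha'⟩ := exists_hom_appTop (W := Z₁.left) (V := Spec (CommRingCat.of C)) (α.comp gm.hom.hom)
  obtain ⟨b', hb'⟩ := exists_hom_appTop (W := Z₂.left) (V := Spec (CommRingCat.of C)) (β.comp gm.hom.hom)
  have hC' : RingPO.IsFibreProd p.left.appTop.hom q.left.appTop.hom a'.appTop.hom b'.appTop.hom :=
    { surj := hp
      comm := fun z => by rw [ha', hb']; exact hC.comm _
      ext := fun z z' h1 h2 => by
        rw [ha', ha'] at h1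
        rw [hb', hb'] at h2
        exact (ConcreteCategory.bijective_of_isIso gm.hom).1 (hC.ext _ _ h1 h2)
      exists_of_eq := fun b a h => by
        obtain ⟨z, h1, h2⟩ := hC.exists_of_eq b a h
        obtain ⟨w, rfl⟩ := (ConcreteCategory.bijective_of_isIso gm.hom).2 z
        exact ⟨w, (ha' w).trans h1, (hb' w).trans h2⟩ }
  have e : ∀ {U V : Scheme.{u}} [IsAffine U] [IsAffine V] (k : U ⟶ V),
      Spec.map (CommRingCat.ofHom k.appTop.hom) ≫ V.isoSpec.inv = U.isoSpec.inv ≫ k :=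
    fun k => by rw [CommRingCat.ofHom_hom]; exact Scheme.isoSpec_inv_naturality _
  have hsch : IsPushout p.left q.left a' b' :=
    hC'.isPushout.of_iso Z₀.left.isoSpec.symm Z₁.left.isoSpec.symm Z₂.left.isoSpec.symm
      (Spec (CommRingCat.of C)).isoSpec.symm (e p.left) (e q.left) (e a') (e b')
  let π : Spec (CommRingCat.of C) ⟶ S := hsch.desc Z₁.hom Z₂.hom ((Over.w p).trans (Over.w q).symm)
  haveI : IsAffine (Over.mk π).left := inferInstanceAs (IsAffine (Spec _))
  refine ⟨Over.mk π, inferInstance, Over.homMk a' (hsch.inl_desc _ _ _), Over.homMk b' (hsch.inr_desc _ _ _), hC', ?_⟩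
  exact isPushout_of_isFibreProd p q _ _ hC'

/-- Multiplying with `A(M)` preserves fibre products of rings of functions. -/
theorem isFibreProd_whiskerLeft {Z₀ Z₁ Z₂ P : Over S} [IsAffine Z₀.left] [IsAffine Z₁.left] [IsAffine Z₂.left]
    [IsAffine P.left] {p : Z₀ ⟶ Z₁} {q : Z₀ ⟶ Z₂} {a : Z₁ ⟶ P} {b : Z₂ ⟶ P}
    (h : RingPO.IsFibreProd p.left.appTop.hom q.left.appTop.hom a.left.appTop.hom b.left.appTop.hom) :
    RingPO.IsFibreProd (AMonS S M ◁ p).left.appTop.hom (AMonS S M ◁ q).left.appTop.hom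
      (AMonS S M ◁ a).left.appTop.hom (AMonS S M ◁ b).left.appTop.hom := by
  classical
  have hw : ∀ {U V : Over S} [IsAffine U.left] [IsAffine V.left] (k : U ⟶ V) (x : MonoidAlgebra (RR V) (Multiplicative M)),
      (AMonS S M ◁ k).left.appTop.hom (theta M V x) =
        theta M U (MonoidAlgebra.mapRingHom _ k.left.appTop.hom x) :=
    fun k x => RingHom.congr_fun (theta_whisker _ k) x
  refine ⟨?_, ?_, ?_, ?_⟩
  · intro z
    obtain ⟨y, rfl⟩ := (theta_iso M Z₀).2.2 z
    obtain ⟨x, rfl⟩ := mapRingHom_surjective (M := M) _ h.surj y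
    exact ⟨theta M Z₁ x, hw p x⟩
  · intro z
    obtain ⟨x, rfl⟩ := (theta_iso M P).2.2 z
    rw [hw, hw, hw, hw]
    congr 1
    ext m
    simp only [MonoidAlgebra.coeff_mapRingHom]
    exact h.comm _
  · intro z z' h1 h2
    obtain ⟨x, rfl⟩ := (theta_iso M P).2.2 z
    obtain ⟨x', rfl⟩ := (theta_iso M P).2.2 z'
    rw [hw, hw] at h1 h2
    have e1 := (theta_iso M Z₁).2.1 h1
    have e2 := (theta_iso M Z₂).2.1 h2
    congr 1
    ext m
    refine h.ext _ _ ?_ ?_
    · have := congrArg (fun t => t.coeff m) e1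
      simpa only [MonoidAlgebra.coeff_mapRingHom] using this
    · have := congrArg (fun t => t.coeff m) e2
      simpa only [MonoidAlgebra.coeff_mapRingHom] using this
  · intro z₂ z₁ hz
    obtain ⟨y, rfl⟩ := (theta_iso M Z₂).2.2 z₂
    obtain ⟨x, rfl⟩ := (theta_iso M Z₁).2.2 z₁
    rw [hw, hw] at hz
    have hm : ∀ m, p.left.appTop.hom (x.coeff m) = q.left.appTop.hom (y.coeff m) := fun m => by
      have := congrArg (fun t => t.coeff m) ((theta_iso M Z₀).2.1 hz)
      simpa only [MonoidAlgebra.coeff_mapRingHom] using this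
    choose c hc1 hc2 using fun m => h.exists_of_eq _ _ (hm m)
    refine ⟨theta M P (∑ m ∈ x.coeff.support ∪ y.coeff.support, MonoidAlgebra.single m (c m)), ?_, ?_⟩
    all_goals
      rw [hw]
      congr 1
      ext m
      simp only [map_sum, MonoidAlgebra.mapRingHom_single, MonoidAlgebra.coeff_sum, Finsupp.finset_sum_apply,
        MonoidAlgebra.coeff_single]
      by_cases hm' : m ∈ x.coeff.support ∪ y.coeff.support
      · rw [Finset.sum_eq_single m (fun m' _ hne => Finsupp.single_eq_of_ne (Ne.symm hne)) (fun h => absurd hm' h),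
          Finsupp.single_eq_same]
        first
          | exact hc1 m
          | exact hc2 m
      · rw [Finset.sum_eq_zero fun m' hm'' => Finsupp.single_eq_of_ne (by rintro rfl; exact hm' hm'')]
        rw [Finset.notMem_union, Finsupp.notMem_support_iff, Finsupp.notMem_support_iff] at hm'
        first
          | exact hm'.1.symm
          | exact hm'.2.symm

/-- Actions on the corners induce an action on a glued scheme. -/
theorem exists_glue_act {Z₀ Z₁ Z₂ P : Over S} [IsAffine Z₀.left] [IsAffine Z₁.left] [IsAffine Z₂.left]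
    [IsAffine P.left] {p : Z₀ ⟶ Z₁} {q : Z₀ ⟶ Z₂} {a : Z₁ ⟶ P} {b : Z₂ ⟶ P}
    (h : RingPO.IsFibreProd p.left.appTop.hom q.left.appTop.hom a.left.appTop.hom b.left.appTop.hom)
    (ρ₀ : MonAct (AMonS S M) Z₀) (ρ₁ : MonAct (AMonS S M) Z₁) (ρ₂ : MonAct (AMonS S M) Z₂)
    (hp : MonAct.IsEquivariant ρ₀ ρ₁ p) (hq : MonAct.IsEquivariant ρ₀ ρ₂ q) :
    ∃ aP : MonAct (AMonS S M) P, MonAct.IsEquivariant ρ₁ aP a ∧ MonAct.IsEquivariant ρ₂ aP b ∧
      ∀ {X : Over S} (aX : MonAct (AMonS S M) X) (k : P ⟶ X), MonAct.IsEquivariant ρ₁ aX (a ≫ k) →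
        MonAct.IsEquivariant ρ₂ aX (b ≫ k) → MonAct.IsEquivariant aP aX k := by
  haveI := (theta_iso M Z₀).1
  haveI := (theta_iso M Z₁).1
  haveI := (theta_iso M Z₂).1
  haveI := (theta_iso M P).1
  haveI : IsAffine (AMonS S M ⊗ (AMonS S M ⊗ Z₀)).left := (theta_iso M _).1
  haveI : IsAffine (AMonS S M ⊗ (AMonS S M ⊗ Z₁)).left := (theta_iso M _).1
  haveI : IsAffine (AMonS S M ⊗ (AMonS S M ⊗ Z₂)).left := (theta_iso M _).1
  haveI : IsAffine (AMonS S M ⊗ (AMonS S M ⊗ P)).left := (theta_iso M _).1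
  have h1 := isFibreProd_whiskerLeft (M := M) h
  have po := isPushout_of_isFibreProd p q a b h
  have po1 := isPushout_of_isFibreProd _ _ _ _ h1
  have po2 := isPushout_of_isFibreProd _ _ _ _ (isFibreProd_whiskerLeft (M := M) h1)
  unfold MonAct.IsEquivariant at hp hq
  have w : (AMonS S M ◁ p) ≫ ρ₁.act ≫ a = (AMonS S M ◁ q) ≫ ρ₂.act ≫ b := by
    rw [← reassoc_of% hp, ← reassoc_of% hq, po.w]
  let act := po1.desc _ _ w
  have ha : (AMonS S M ◁ a) ≫ act = ρ₁.act ≫ a := po1.inl_desc _ _ _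
  have hb : (AMonS S M ◁ b) ≫ act = ρ₂.act ≫ b := po1.inr_desc _ _ _
  have hone : lift (1 : P ⟶ AMonS S M) (𝟙 P) ≫ act = 𝟙 P := by
    apply po.hom_ext
    · have e : a ≫ lift (1 : P ⟶ AMonS S M) (𝟙 P) = lift (1 : Z₁ ⟶ AMonS S M) (𝟙 Z₁) ≫ (AMonS S M ◁ a) := by
        rw [comp_lift, MonObj.comp_one, lift_whiskerLeft, Category.comp_id, Category.id_comp]
      rw [← Category.assoc, e, Category.assoc, ha, ρ₁.lift_one_act_assoc, Category.id_comp, Category.comp_id]
    · have e : b ≫ lift (1 : P ⟶ AMonS S M) (𝟙 P) = lift (1 : Z₂ ⟶ AMonS S M) (𝟙 Z₂) ≫ (AMonS S M ◁ b) := by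
        rw [comp_lift, MonObj.comp_one, lift_whiskerLeft, Category.comp_id, Category.id_comp]
      rw [← Category.assoc, e, Category.assoc, hb, ρ₂.lift_one_act_assoc, Category.id_comp, Category.comp_id]
  have hmul : lift (fst (AMonS S M) (AMonS S M ⊗ P) * (snd _ _ ≫ fst (AMonS S M) P)) (snd _ _ ≫ snd _ P) ≫ act =
      (AMonS S M ◁ act) ≫ act := by
    have key : ∀ {Z : Over S} (ρ : MonAct (AMonS S M) Z) (c : Z ⟶ P) (_ : (AMonS S M ◁ c) ≫ act = ρ.act ≫ c),
        (AMonS S M ◁ (AMonS S M ◁ c)) ≫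
          lift (fst (AMonS S M) (AMonS S M ⊗ P) * (snd _ _ ≫ fst (AMonS S M) P)) (snd _ _ ≫ snd _ P) ≫ act =
        (AMonS S M ◁ (AMonS S M ◁ c)) ≫ (AMonS S M ◁ act) ≫ act := by
      intro Z ρ c hc
      apply hom_ext_lift₂
      intro T g w
      rw [← lift_comp_fst_snd w]
      generalize w ≫ fst (AMonS S M) Z = g'
      generalize w ≫ snd (AMonS S M) Z = z
      simp only [lift_whiskerLeft_assoc, lift_whiskerLeft, comp_lift_assoc, MonObj.comp_mul, lift_fst, lift_snd,
        lift_snd_assoc]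
      rw [show lift (g * g') (z ≫ c) = lift (g * g') z ≫ (AMonS S M ◁ c) by rw [lift_whiskerLeft], Category.assoc, hc,
        MonAct.lift_mul_act_assoc, show lift g' (z ≫ c) = lift g' z ≫ (AMonS S M ◁ c) by rw [lift_whiskerLeft],
        Category.assoc, hc, ← Category.assoc (lift g' z),
        show lift g ((lift g' z ≫ ρ.act) ≫ c) = lift g (lift g' z ≫ ρ.act) ≫ (AMonS S M ◁ c) by rw [lift_whiskerLeft],
        Category.assoc, hc]
    exact po2.hom_ext (key ρ₁ a ha) (key ρ₂ b hb)
  refine ⟨MonAct.mk' act (fun T x => ?_) (fun T g h x => ?_), ha.symm, hb.symm, fun {X} aX k h1 h2 => ?_⟩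
  · have := congrArg (x ≫ ·) hone
    simpa only [comp_lift_assoc, MonObj.comp_one, Category.comp_id] using this
  · have := congrArg (lift g (lift h x) ≫ ·) hmul
    simpa only [comp_lift_assoc, lift_whiskerLeft_assoc, MonObj.comp_mul, lift_fst, lift_snd, lift_snd_assoc] using this
  · unfold MonAct.IsEquivariant at h1 h2 ⊢
    show act ≫ k = _
    apply po1.hom_ext
    · rw [← Category.assoc, ha, Category.assoc, h1, MonoidalCategory.whiskerLeft_comp_assoc]
    · rw [← Category.assoc, hb, Category.assoc, h2, MonoidalCategory.whiskerLeft_comp_assoc]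

end Groth.Agent.MagnetLib.Avg
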