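import Groth.Agent.MagnetLib.Avg.Attr
import Groth.Agent.MagnetLib.Avg.Glue
import Groth.Prelude.Def_Magnet4

/-!
# The span of a face and a square-zero thickening
-/

set_option linter.style.haveILetI false
set_option autoImplicit false

universe u

open CategoryTheory CategoryTheory.Limits MonoidalCategory CartesianMonoidalCategory MonObj AlgebraicGeometry
open Opposite Magnet

namespace Groth.Agent.MagnetLib.Avg

open H23.CharPts H28.MagnetAff

variable {S : Scheme.{u}} {M : Type} [AddCommGroup M] {N F : AddSubmonoid M}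

theorem isEquivariant_whiskerRight {K L : AddSubmonoid M} (T : Over S) (ψ : AMonS S K ⟶ AMonS S L)
    (h : MonAct.IsEquivariant (subAct S M K) (subAct S M L) ψ) :
    MonAct.IsEquivariant ((subAct S M K).prod (MonAct.trivial (AMonS S M) T))
      ((subAct S M L).prod (MonAct.trivial (AMonS S M) T)) (ψ ▷ T) := by
  rw [MonAct.isEquivariant_iff] at h ⊢
  intro V g w
  rw [← lift_comp_fst_snd w, MonAct.lift_prod_act_assoc, MonAct.lift_trivial_act, lift_whiskerRight,
    lift_whiskerRight, MonAct.lift_prod_act, MonAct.lift_trivial_act, Category.assoc, h]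

/-- The pushout of `A(F) × T ⟵ A(F) × T₀ ⟶ A(N) × T₀` with its action. -/
theorem exists_face_pushout (hF : IsFace N F) {T₀ T : Over S} [IsAffine T.left] [IsAffine T₀.left] (t : T₀ ⟶ T)
    (ht : Function.Surjective t.left.appTop.hom) :
    ∃ (P : Over S) (_ : IsAffine P.left) (a : AMonS S F ⊗ T ⟶ P) (b : AMonS S N ⊗ T₀ ⟶ P)
      (aP : MonAct (AMonS S M) P),
      RingPO.IsFibreProd (AMonS S F ◁ t).left.appTop.hom (AMonS.faceMap S hF ▷ T₀).left.appTop.hom
        a.left.appTop.hom b.left.appTop.hom ∧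
      IsPushout (AMonS S F ◁ t) (AMonS.faceMap S hF ▷ T₀) a b ∧
      MonAct.IsEquivariant ((subAct S M F).prod (MonAct.trivial (AMonS S M) T)) aP a ∧
      MonAct.IsEquivariant ((subAct S M N).prod (MonAct.trivial (AMonS S M) T₀)) aP b ∧
      ∀ {X : Over S} (aX : MonAct (AMonS S M) X) (k : P ⟶ X),
        MonAct.IsEquivariant ((subAct S M F).prod (MonAct.trivial (AMonS S M) T)) aX (a ≫ k) →
        MonAct.IsEquivariant ((subAct S M N).prod (MonAct.trivial (AMonS S M) T₀)) aX (b ≫ k) →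
          MonAct.IsEquivariant aP aX k := by
  haveI := (theta_iso F T).1
  haveI := (theta_iso F T₀).1
  haveI := (theta_iso N T₀).1
  obtain ⟨P, hP, a, b, h, po⟩ := exists_glue (AMonS S F ◁ t) (AMonS.faceMap S hF ▷ T₀)
    (whiskerLeft_surjective T₀ T t ht)
  obtain ⟨aP, h1, h2, h3⟩ := exists_glue_act (M := M) h
    ((subAct S M F).prod (MonAct.trivial (AMonS S M) T₀)) ((subAct S M F).prod (MonAct.trivial (AMonS S M) T))
    ((subAct S M N).prod (MonAct.trivial (AMonS S M) T₀)) (MonAct.prod_trivial_act_whiskerLeft _ t)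
    (isEquivariant_whiskerRight T₀ _ (isEquivariant_faceMapS S hF))
  exact ⟨P, hP, a, b, aP, h, po, h1, h2, h3⟩

/-- Lifting along the map of attractors of a face. -/
theorem face_hasLift (hF : IsFace N F) {X : Over S} (aX : MonAct (AMonS S M) X) [Smooth X.hom]
    {T₀ T : Over S} [IsAffine T.left] [IsAffine T₀.left] (t : T₀ ⟶ T) (ht : Function.Surjective t.left.appTop.hom)
    (hsq : RingHom.ker t.left.appTop.hom ^ 2 = ⊥) (x : AMonS S N ⊗ T₀ ⟶ X)
    (hx : MonAct.IsEquivariant ((subAct S M N).prod (MonAct.trivial (AMonS S M) T₀)) aX x)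
    (y : AMonS S F ⊗ T ⟶ X) (hy : MonAct.IsEquivariant ((subAct S M F).prod (MonAct.trivial (AMonS S M) T)) aX y)
    (w : (AMonS.faceMap S hF ▷ T₀) ≫ x = (AMonS S F ◁ t) ≫ y) :
    ∃ l : AMonS S N ⊗ T ⟶ X, MonAct.IsEquivariant ((subAct S M N).prod (MonAct.trivial (AMonS S M) T)) aX l ∧
      (AMonS S N ◁ t) ≫ l = x ∧ (AMonS.faceMap S hF ▷ T) ≫ l = y := by
  haveI := (theta_iso N T).1
  haveI := (theta_iso N T₀).1
  haveI := (theta_iso F T).1
  haveI := (theta_iso F T₀).1
  obtain ⟨P, hP, a, b, aP, hfp, po, hae, hbe, hdesc⟩ := exists_face_pushout hF t ht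
  have hw : (AMonS S F ◁ t) ≫ (AMonS.faceMap S hF ▷ T) = (AMonS.faceMap S hF ▷ T₀) ≫ (AMonS S N ◁ t) :=
    whisker_exchange (AMonS.faceMap S hF) t
  let i : P ⟶ AMonS S N ⊗ T := po.desc _ _ hw
  have hai : a ≫ i = AMonS.faceMap S hF ▷ T := po.inl_desc _ _ _
  have hbi : b ≫ i = AMonS S N ◁ t := po.inr_desc _ _ _
  let r : AMonS S N ⊗ T ⟶ AMonS S F ⊗ T := AMonS.map S (AddSubmonoid.inclusion hF.le) ▷ T
  let r₀ : AMonS S N ⊗ T₀ ⟶ AMonS S F ⊗ T₀ := AMonS.map S (AddSubmonoid.inclusion hF.le) ▷ T₀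
  have hr : (AMonS.faceMap S hF ▷ T) ≫ r = 𝟙 _ := by
    rw [← comp_whiskerRight, AMonS.faceMap_comp_map, id_whiskerRight]
  have hr₀ : (AMonS S N ◁ t) ≫ r = r₀ ≫ (AMonS S F ◁ t) := whisker_exchange _ t
  have hie : MonAct.IsEquivariant aP ((subAct S M N).prod (MonAct.trivial (AMonS S M) T)) i :=
    hdesc _ i (by rw [hai]; exact isEquivariant_whiskerRight T _ (isEquivariant_faceMapS S hF))
      (by rw [hbi]; exact MonAct.prod_trivial_act_whiskerLeft _ t)
  have hai' : ∀ z, a.left.appTop.hom (i.left.appTop.hom z) = (AMonS.faceMap S hF ▷ T).left.appTop.hom z :=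
    fun z => congrArg (fun q => q.left.appTop.hom z) hai
  have hbi' : ∀ z, b.left.appTop.hom (i.left.appTop.hom z) = (AMonS S N ◁ t).left.appTop.hom z :=
    fun z => congrArg (fun q => q.left.appTop.hom z) hbi
  have hr' : ∀ z, (AMonS.faceMap S hF ▷ T).left.appTop.hom (r.left.appTop.hom z) = z :=
    fun z => congrArg (fun q => q.left.appTop.hom z) hr
  have hr₀' : ∀ z, (AMonS S N ◁ t).left.appTop.hom (r.left.appTop.hom z) =
      r₀.left.appTop.hom ((AMonS S F ◁ t).left.appTop.hom z) :=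
    fun z => congrArg (fun q => q.left.appTop.hom z) hr₀
  have hisurj : Function.Surjective i.left.appTop.hom := by
    intro z
    obtain ⟨v, hv⟩ := whiskerLeft_surjective (M := N) T₀ T t ht (b.left.appTop.hom z)
    refine ⟨v + r.left.appTop.hom (a.left.appTop.hom z - (AMonS.faceMap S hF ▷ T).left.appTop.hom v),
      hfp.ext _ _ ?_ ?_⟩
    · rw [hai', map_add, hr']
      abel
    · rw [hbi', map_add, hv, hr₀']
      have e : (AMonS S F ◁ t).left.appTop.hom (a.left.appTop.hom z - (AMonS.faceMap S hF ▷ T).left.appTop.hom v) = 0 := by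
        rw [map_sub, hfp.comm, sub_eq_zero, ← hv]
        exact (congrArg (fun q => q.left.appTop.hom v) hw).symm
      rw [e, map_zero, add_zero]
  have hisq : RingHom.ker i.left.appTop.hom ^ 2 = ⊥ := by
    refine eq_bot_iff.mpr ((pow_le_pow_left' ?_ 2).trans (whiskerLeft_sq (M := N) T₀ T t hsq).le)
    intro z hz
    rw [RingHom.mem_ker] at hz ⊢
    rw [← hbi', hz, map_zero]
  let x₀ : P ⟶ X := po.desc y x w.symm
  have ha₀ : a ≫ x₀ = y := po.inl_desc _ _ _
  have hb₀ : b ≫ x₀ = x := po.inr_desc _ _ _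
  haveI : Smooth (toUnit X).left := by
    have e : (toUnit X).left = X.hom := (Category.comp_id _).symm.trans (Over.w (toUnit X))
    rw [e]
    infer_instance
  obtain ⟨l, hl, hl1, -⟩ := exists_equivariant_lift_of_smooth ((subAct S M N).prod (MonAct.trivial (AMonS S M) T)) aP
    aX (MonAct.trivial (AMonS S M) (𝟙_ (Over S))) i hisurj hisq hie (toUnit X) (toUnit_unique _ _) x₀
    (hdesc aX x₀ (by rw [ha₀]; exact hy) (by rw [hb₀]; exact hx)) (toUnit _) (toUnit_unique _ _) (toUnit_unique _ _)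
  refine ⟨l, hl, ?_, ?_⟩
  · rw [← hbi, Category.assoc, hl1, hb₀]
  · rw [← hai, Category.assoc, hl1, ha₀]

end Groth.Agent.MagnetLib.Avg
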