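import Groth.Agent.MagnetLib.Avg.Pushout

/-!
# Equivariant lifting along square-zero thickenings

A lift of an equivariant morphism along an equivariant square-zero thickening of affine schemes can be averaged to an
equivariant lift.
-/

set_option linter.style.haveILetI false
set_option autoImplicit false

universe u

open CategoryTheory CategoryTheory.Limits MonoidalCategory CartesianMonoidalCategory MonObj AlgebraicGeometry
open Opposite Magnet

namespace Groth.Agent.MagnetLib.Avg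

open H23.CharPts H28.MagnetAff

variable {S : Scheme.{u}}

section Mon

variable {M : Type} [AddCommMonoid M] {W₀ W X Y : Over S} [IsAffine W.left] {i : W₀ ⟶ W}

/-- The average of a family over `D(M)` which is constant on the thickened scheme. -/
noncomputable def Data.avg (D : Data (M := M) i) (ψ : AMonS S M ⊗ W ⟶ X) (x : W₀ ⟶ X)
    (h : (AMonS S M ◁ i) ≫ ψ = snd (AMonS S M) W₀ ≫ x) : W ⟶ X :=
  D.θ ≫ D.po.desc ψ x h

theorem Data.avg_congr (D : Data (M := M) i) {ψ ψ' : AMonS S M ⊗ W ⟶ X} {x x' : W₀ ⟶ X}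
    (h : (AMonS S M ◁ i) ≫ ψ = snd (AMonS S M) W₀ ≫ x) (h' : (AMonS S M ◁ i) ≫ ψ' = snd (AMonS S M) W₀ ≫ x')
    (e : ψ = ψ') (e' : x = x') : D.avg ψ x h = D.avg ψ' x' h' := by
  subst e e'
  rfl

theorem Data.i_avg (D : Data (M := M) i) (ψ : AMonS S M ⊗ W ⟶ X) (x : W₀ ⟶ X)
    (h : (AMonS S M ◁ i) ≫ ψ = snd (AMonS S M) W₀ ≫ x) : i ≫ D.avg ψ x h = x := by
  rw [Data.avg, ← Category.assoc, D.i_θ, D.po.inr_desc]

theorem Data.avg_comp (D : Data (M := M) i) (ψ : AMonS S M ⊗ W ⟶ X) (x : W₀ ⟶ X)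
    (h : (AMonS S M ◁ i) ≫ ψ = snd (AMonS S M) W₀ ≫ x) (f : X ⟶ Y) (y : W ⟶ Y)
    (hψ : ψ ≫ f = snd (AMonS S M) W ≫ y) (hx : x ≫ f = i ≫ y) : D.avg ψ x h ≫ f = y := by
  have e : D.po.desc ψ x h ≫ f = D.s ≫ y := by
    apply D.po.hom_ext
    · rw [D.po.inl_desc_assoc, hψ, ← Category.assoc, D.a_s]
    · rw [D.po.inr_desc_assoc, hx, ← Category.assoc, D.b_s]
  rw [Data.avg, Category.assoc, e, ← Category.assoc, D.θ_s, Category.id_comp]

theorem Data.avg_act (D : Data (M := M) i) (a : MonAct (AMonS S M) X) (g : W ⟶ AMonS S M)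
    (ψ : AMonS S M ⊗ W ⟶ X) (x : W₀ ⟶ X) (h : (AMonS S M ◁ i) ≫ ψ = snd (AMonS S M) W₀ ≫ x)
    (h' : (AMonS S M ◁ i) ≫ (lift (snd (AMonS S M) W ≫ g) ψ ≫ a.act) =
      snd (AMonS S M) W₀ ≫ (lift (i ≫ g) x ≫ a.act)) :
    lift g (D.avg ψ x h) ≫ a.act = D.avg _ _ h' := by
  have e : lift (D.s ≫ g) (D.po.desc ψ x h) ≫ a.act = D.po.desc _ _ h' := by
    apply D.po.hom_ext
    · rw [D.po.inl_desc, comp_lift_assoc, D.po.inl_desc, ← Category.assoc D.a, D.a_s]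
    · rw [D.po.inr_desc, comp_lift_assoc, D.po.inr_desc, ← Category.assoc D.b, D.b_s]
  rw [Data.avg, Data.avg, ← e, comp_lift_assoc, ← Category.assoc D.θ D.s, D.θ_s, Category.id_comp]

/-- Naturality in the thickening. -/
theorem Data.avg_natural (D : Data (M := M) i) {W₀' W' : Over S} [IsAffine W'.left] {i' : W₀' ⟶ W'}
    (D' : Data (M := M) i') (u₀ : W₀' ⟶ W₀) (u : W' ⟶ W) (hu : i' ≫ u = u₀ ≫ i)
    (ψ : AMonS S M ⊗ W ⟶ X) (x : W₀ ⟶ X) (h : (AMonS S M ◁ i) ≫ ψ = snd (AMonS S M) W₀ ≫ x)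
    (h' : (AMonS S M ◁ i') ≫ ((AMonS S M ◁ u) ≫ ψ) = snd (AMonS S M) W₀' ≫ (u₀ ≫ x)) :
    u ≫ D.avg ψ x h = D'.avg _ _ h' := by
  haveI := D.affine
  have w : (AMonS S M ◁ i') ≫ (AMonS S M ◁ u) ≫ D.a = snd (AMonS S M) W₀' ≫ u₀ ≫ D.b := by
    rw [← MonoidalCategory.whiskerLeft_comp_assoc, hu, MonoidalCategory.whiskerLeft_comp_assoc, D.po.w,
      whiskerLeft_snd_assoc]
  let Pu := D'.po.desc _ _ w
  have e1 : D'.θ ≫ Pu = u ≫ D.θ := by
    refine Over.OverMorphism.ext (ext_appTop fun v => ?_)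
    show D'.θ.left.appTop (Pu.left.appTop v) = u.left.appTop (D.θ.left.appTop v)
    rw [D'.θ_appTop, D.θ_appTop, ← co_comp W' D'.a Pu v, D'.po.inl_desc, co_whisker]
    simp [MonoidalCategory.whiskerLeft_comp, MonoidAlgebra.coeff_mapRingHom]
  have e2 : Pu ≫ D.po.desc ψ x h = D'.po.desc _ _ h' := by
    apply D'.po.hom_ext
    · rw [D'.po.inl_desc, D'.po.inl_desc_assoc, Category.assoc, D.po.inl_desc]
    · rw [D'.po.inr_desc, D'.po.inr_desc_assoc, Category.assoc, D.po.inr_desc]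
  rw [Data.avg, Data.avg, ← e2, ← Category.assoc D'.θ, e1, Category.assoc]

/-- Translation by a point. -/
noncomputable abbrev tr (W : Over S) (g : W ⟶ AMonS S M) : AMonS S M ⊗ W ⟶ AMonS S M ⊗ W :=
  lift (fst (AMonS S M) W * (snd (AMonS S M) W ≫ g)) (snd (AMonS S M) W)

theorem coeff_tr {V : Over S} (g : W ⟶ AMonS S M) (k : AMonS S M ⊗ W ⟶ V) (v : RR V) :
    (co W (tr W g ≫ k) v).coeff 1 = (co W k v).coeff 1 := by
  classical
  let Φ : MonoidAlgebra (RR W) (Multiplicative M) →+* MonoidAlgebra (RR W) (Multiplicative M) :=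
    MonoidAlgebra.liftNCRingHom MonoidAlgebra.singleOneRingHom
      { toFun := fun m => MonoidAlgebra.single m (chi g m)
        map_one' := by rw [map_one]; rfl
        map_mul' := fun a b => by rw [map_mul, MonoidAlgebra.single_mul_single] }
      (fun _ _ => Commute.all _ _)
  have hΦs : ∀ m r, Φ (MonoidAlgebra.single m r) = MonoidAlgebra.single m (r * chi g m) := fun m r => by
    refine (MonoidAlgebra.liftNC_single _ _ _ _).trans ?_
    show MonoidAlgebra.single 1 r * MonoidAlgebra.single m (chi g m) = _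
    rw [MonoidAlgebra.single_mul_single, _root_.one_mul]
  have hθ : (tr W g).left.appTop.hom.comp (theta M W) = (theta M W).comp Φ := by
    refine MonoidAlgebra.ringHom_ext (fun r => ?_) (fun m => ?_)
    · rw [RingHom.comp_apply, RingHom.comp_apply, hΦs, theta_single, theta_single, map_one, map_one, _root_.mul_one,
        _root_.mul_one, _root_.mul_one]
      show (tr W g ≫ snd _ _).left.appTop r = _
      rw [lift_snd]
    · rw [RingHom.comp_apply, RingHom.comp_apply, hΦs, theta_single, theta_single, map_one, _root_.one_mul, _root_.one_mul]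
      erw [← chi_comp (tr W g) (fst _ W)]
      rw [lift_fst, chi_mul, chi_comp, mul_comm]
  have h1 : co W (tr W g ≫ k) v = Φ (co W k v) := by
    refine (theta_iso M W).2.1 ?_
    rw [theta_co, ← RingHom.comp_apply (theta M W), ← hθ, RingHom.comp_apply, theta_co]
    rfl
  rw [h1]
  generalize co W k v = z
  induction z using MonoidAlgebra.induction_linear with
  | zero => simp
  | add a b ha hb => rw [map_add, MonoidAlgebra.coeff_add, Finsupp.add_apply, ha, hb, MonoidAlgebra.coeff_add, Finsupp.add_apply]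
  | single m r =>
    rw [hΦs, MonoidAlgebra.coeff_single, MonoidAlgebra.coeff_single]
    by_cases hm : m = 1
    · subst hm; simp
    · simp [Finsupp.single_eq_of_ne (Ne.symm hm)]

/-- Averages are invariant under translation. -/
theorem Data.avg_tr (D : Data (M := M) i) (g : W ⟶ AMonS S M)
    (ψ : AMonS S M ⊗ W ⟶ X) (x : W₀ ⟶ X) (h : (AMonS S M ◁ i) ≫ ψ = snd (AMonS S M) W₀ ≫ x)
    (h' : (AMonS S M ◁ i) ≫ (tr W g ≫ ψ) = snd (AMonS S M) W₀ ≫ x) :
    D.avg _ x h' = D.avg ψ x h := by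
  haveI := D.affine
  have w : (AMonS S M ◁ i) ≫ tr W g ≫ D.a = snd (AMonS S M) W₀ ≫ D.b := by
    have e : (AMonS S M ◁ i) ≫ tr W g =
        lift (fst (AMonS S M) W₀ * (snd (AMonS S M) W₀ ≫ i ≫ g)) (snd (AMonS S M) W₀) ≫ (AMonS S M ◁ i) := by
      rw [comp_lift, lift_whiskerLeft, MonObj.comp_mul, whiskerLeft_fst, whiskerLeft_snd, whiskerLeft_snd_assoc]
    rw [← Category.assoc, e, Category.assoc, D.po.w, lift_snd_assoc]
  let Pt := D.po.desc _ _ w
  have e1 : D.θ ≫ Pt = D.θ := by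
    refine Over.OverMorphism.ext (ext_appTop fun v => ?_)
    show D.θ.left.appTop (Pt.left.appTop v) = D.θ.left.appTop v
    rw [D.θ_appTop, D.θ_appTop, ← co_comp W D.a Pt v, D.po.inl_desc, coeff_tr]
  have e2 : Pt ≫ D.po.desc ψ x h = D.po.desc _ _ h' := by
    apply D.po.hom_ext
    · rw [D.po.inl_desc, D.po.inl_desc_assoc, Category.assoc, D.po.inl_desc]
    · rw [D.po.inr_desc, D.po.inr_desc_assoc, D.po.inr_desc]
  rw [Data.avg, Data.avg, ← e2, ← Category.assoc D.θ, e1]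

theorem whiskerLeft_surjective (W₀ W : Over S) [IsAffine W.left] [IsAffine W₀.left] (i : W₀ ⟶ W)
    (hi : Function.Surjective i.left.appTop.hom) :
    Function.Surjective (AMonS S M ◁ i).left.appTop.hom := by
  intro z
  obtain ⟨y, rfl⟩ := (theta_iso M W₀).2.2 z
  obtain ⟨x, rfl⟩ := mapRingHom_surjective (M := M) i.left.appTop.hom hi y
  exact ⟨theta M W x, RingHom.congr_fun (theta_whisker W i) x⟩

theorem whiskerLeft_sq (W₀ W : Over S) [IsAffine W.left] [IsAffine W₀.left] (i : W₀ ⟶ W)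
    (hsq : RingHom.ker i.left.appTop.hom ^ 2 = ⊥) :
    RingHom.ker (AMonS S M ◁ i).left.appTop.hom ^ 2 = ⊥ := by
  rw [sq, eq_bot_iff, Ideal.mul_le]
  intro x hx y hy
  obtain ⟨x, rfl⟩ := (theta_iso M W).2.2 x
  obtain ⟨y, rfl⟩ := (theta_iso M W).2.2 y
  have h0 : ∀ z, theta M W z ∈ RingHom.ker (AMonS S M ◁ i).left.appTop.hom →
      MonoidAlgebra.mapRingHom (Multiplicative M) i.left.appTop.hom z = 0 := fun z hz => by
    refine (theta_iso M W₀).2.1 ?_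
    rw [← RingHom.comp_apply (theta M W₀), ← theta_whisker W i, map_zero]
    exact hz
  rw [Ideal.mem_bot, ← map_mul, mapRingHom_ker_mul _ hsq (h0 x hx) (h0 y hy), map_zero]

end Mon

section Grp

variable {M : Type} [AddCommGroup M]

/-- The inverse of a point. -/
noncomputable abbrev inv' {T : Over S} (g : T ⟶ AMonS S M) : T ⟶ AMonS S M := g ≫ AMonS.map S (-(AddMonoidHom.id M))

theorem chi_inv' {T : Over S} (g : T ⟶ AMonS S M) (m : Multiplicative M) : chi (inv' g) m = chi g m⁻¹ := by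
  rw [chi_map]
  rfl

theorem inv'_mul {T : Over S} (g : T ⟶ AMonS S M) : inv' g * g = 1 := by
  refine chi_injective (MonoidHom.ext fun m => ?_)
  have h1 : chi (1 : T ⟶ AMonS S M) m * chi g m = chi g m := by rw [← chi_mul, _root_.one_mul]
  rw [chi_mul, chi_inv', ← map_mul, inv_mul_cancel, map_one]
  have hu : IsUnit (chi g m) := (Group.isUnit m).map _
  exact (IsUnit.mul_right_cancel hu (h1.trans (_root_.one_mul _).symm)).symm

theorem mul_inv'_mul {T : Over S} (g h : T ⟶ AMonS S M) : h * inv' (g * h) = inv' g := by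
  refine chi_injective (MonoidHom.ext fun m => ?_)
  rw [chi_mul, chi_inv', chi_inv', chi_mul, mul_comm (chi g m⁻¹), ← _root_.mul_assoc, ← map_mul, mul_inv_cancel,
    map_one, _root_.one_mul]

theorem translate_point {Z X T : Over S} (ρ : MonAct (AMonS S M) Z) (aX : MonAct (AMonS S M) X) (l : Z ⟶ X)
    (g h : T ⟶ AMonS S M) (z : T ⟶ Z) :
    lift h (lift (inv' (g * h)) (lift (g * h) z ≫ ρ.act ≫ l) ≫ aX.act) ≫ aX.act =
      lift (inv' g) (lift g (lift h z ≫ ρ.act) ≫ ρ.act ≫ l) ≫ aX.act := by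
  rw [← MonAct.lift_mul_act, mul_inv'_mul, MonAct.lift_mul_act_assoc]

/-- **Equivariant lifting.** -/
theorem exists_equivariant_lift {Z₀ Z X Y : Over S} [IsAffine Z.left] [IsAffine Z₀.left]
    (ρ : MonAct (AMonS S M) Z) (ρ₀ : MonAct (AMonS S M) Z₀) (aX : MonAct (AMonS S M) X) (aY : MonAct (AMonS S M) Y)
    (i : Z₀ ⟶ Z) (hi : Function.Surjective i.left.appTop.hom) (hsq : RingHom.ker i.left.appTop.hom ^ 2 = ⊥)
    (hie : MonAct.IsEquivariant ρ₀ ρ i) (f : X ⟶ Y) (hf : MonAct.IsEquivariant aX aY f)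
    (x : Z₀ ⟶ X) (hx : MonAct.IsEquivariant ρ₀ aX x) (y : Z ⟶ Y) (hy : MonAct.IsEquivariant ρ aY y)
    (l : Z ⟶ X) (hl : i ≫ l = x) (hlf : l ≫ f = y) :
    ∃ l' : Z ⟶ X, MonAct.IsEquivariant ρ aX l' ∧ i ≫ l' = x ∧ l' ≫ f = y := by
  obtain ⟨D⟩ := exists_data (M := M) i hi hsq
  haveI : IsAffine ((AMonS S M) ⊗ Z₀).left := (theta_iso M Z₀).1
  haveI : IsAffine ((AMonS S M) ⊗ Z).left := (theta_iso M Z).1
  obtain ⟨D'⟩ := exists_data (M := M) ((AMonS S M) ◁ i) (whiskerLeft_surjective Z₀ Z i hi) (whiskerLeft_sq Z₀ Z i hsq)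
  rw [MonAct.isEquivariant_iff] at hie hf hx hy
  obtain ⟨ψ, hψ⟩ : ∃ ψ : (AMonS S M) ⊗ Z ⟶ X, ∀ (T : Over S) (g : T ⟶ (AMonS S M)) (z : T ⟶ Z),
      lift g z ≫ ψ = lift (inv' g) (lift g z ≫ ρ.act ≫ l) ≫ aX.act := by
    refine ⟨lift (inv' (fst (AMonS S M) Z)) (ρ.act ≫ l) ≫ aX.act, fun T g z => ?_⟩
    rw [comp_lift_assoc, lift_fst_assoc]
  have hψ₀ : ((AMonS S M) ◁ i) ≫ ψ = snd (AMonS S M) Z₀ ≫ x := by
    apply hom_ext_lift₂
    intro T g z
    rw [lift_whiskerLeft_assoc, hψ, lift_snd_assoc]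
    have e : lift g (z ≫ i) ≫ ρ.act ≫ l = lift g (z ≫ x) ≫ aX.act := by
      rw [← Category.assoc (lift g (z ≫ i)), ← hie T g z, Category.assoc, Category.assoc, hl, hx]
    rw [e, ← MonAct.lift_mul_act, inv'_mul, MonAct.lift_one_act]
  have hψf : ψ ≫ f = snd (AMonS S M) Z ≫ y := by
    apply hom_ext_lift₂
    intro T g z
    rw [← Category.assoc, hψ, Category.assoc, hf, lift_snd_assoc]
    simp only [Category.assoc, hlf]
    rw [hy, ← MonAct.lift_mul_act, inv'_mul, MonAct.lift_one_act]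
  have hxf : x ≫ f = i ≫ y := by rw [← hl, Category.assoc, hlf]
  refine ⟨D.avg ψ x hψ₀, ?_, D.i_avg _ _ _, D.avg_comp _ _ _ f y hψf hxf⟩
  have hc1 : ((AMonS S M) ◁ ((AMonS S M) ◁ i)) ≫ (((AMonS S M) ◁ ρ.act) ≫ ψ) = snd (AMonS S M) ((AMonS S M) ⊗ Z₀) ≫ (ρ₀.act ≫ x) := by
    have e : ((AMonS S M) ◁ i) ≫ ρ.act = ρ₀.act ≫ i := by
      apply hom_ext_lift₂
      intro T g z
      rw [lift_whiskerLeft_assoc, hie T g z]
    rw [← MonoidalCategory.whiskerLeft_comp_assoc, e, MonoidalCategory.whiskerLeft_comp_assoc, hψ₀, whiskerLeft_snd_assoc]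
  have hc2 : ((AMonS S M) ◁ ((AMonS S M) ◁ i)) ≫ (((AMonS S M) ◁ snd (AMonS S M) Z) ≫ ψ) = snd (AMonS S M) ((AMonS S M) ⊗ Z₀) ≫ (snd (AMonS S M) Z₀ ≫ x) := by
    rw [← MonoidalCategory.whiskerLeft_comp_assoc, whiskerLeft_snd, MonoidalCategory.whiskerLeft_comp_assoc, hψ₀,
      whiskerLeft_snd_assoc]
  have hc3 : ((AMonS S M) ◁ ((AMonS S M) ◁ i)) ≫ (lift (snd (AMonS S M) ((AMonS S M) ⊗ Z) ≫ fst (AMonS S M) Z) (((AMonS S M) ◁ snd (AMonS S M) Z) ≫ ψ) ≫ aX.act) =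
      snd (AMonS S M) ((AMonS S M) ⊗ Z₀) ≫ (lift (((AMonS S M) ◁ i) ≫ fst (AMonS S M) Z) (snd (AMonS S M) Z₀ ≫ x) ≫ aX.act) := by
    rw [comp_lift_assoc, comp_lift_assoc, hc2, whiskerLeft_snd_assoc]
  have e0 : lift (((AMonS S M) ◁ i) ≫ fst (AMonS S M) Z) (snd (AMonS S M) Z₀ ≫ x) ≫ aX.act = ρ₀.act ≫ x := by
    rw [whiskerLeft_fst, ← hx, lift_fst_snd, Category.id_comp]
  have e1 : tr ((AMonS S M) ⊗ Z) (fst (AMonS S M) Z) ≫ (lift (snd (AMonS S M) ((AMonS S M) ⊗ Z) ≫ fst (AMonS S M) Z) (((AMonS S M) ◁ snd (AMonS S M) Z) ≫ ψ) ≫ aX.act) =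
      ((AMonS S M) ◁ ρ.act) ≫ ψ := by
    apply hom_ext_lift₂
    intro T g w
    rw [← lift_comp_fst_snd w]
    generalize w ≫ fst (AMonS S M) Z = h
    generalize w ≫ snd (AMonS S M) Z = z
    simp only [tr, comp_lift_assoc, comp_lift, MonObj.comp_mul, lift_fst, lift_snd, lift_snd_assoc,
      lift_whiskerLeft_assoc, hψ]
    rw [show lift g (lift h z) ≫ inv' (fst (AMonS S M) (AMonS S M ⊗ Z) * snd (AMonS S M) (AMonS S M ⊗ Z) ≫ fst (AMonS S M) Z)
        = inv' (g * h) by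
      rw [inv', inv', ← Category.assoc, MonObj.comp_mul, lift_fst, lift_snd_assoc, lift_fst]]
    exact translate_point ρ aX l g h z
  have hc4 : ((AMonS S M) ◁ ((AMonS S M) ◁ i)) ≫ (tr ((AMonS S M) ⊗ Z) (fst (AMonS S M) Z) ≫ (lift (snd (AMonS S M) ((AMonS S M) ⊗ Z) ≫ fst (AMonS S M) Z) (((AMonS S M) ◁ snd (AMonS S M) Z) ≫ ψ) ≫ aX.act)) =
      snd (AMonS S M) ((AMonS S M) ⊗ Z₀) ≫ (lift (((AMonS S M) ◁ i) ≫ fst (AMonS S M) Z) (snd (AMonS S M) Z₀ ≫ x) ≫ aX.act) := by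
    rw [e1, e0, hc1]
  show ρ.act ≫ D.avg ψ x hψ₀ = ((AMonS S M) ◁ D.avg ψ x hψ₀) ≫ aX.act
  rw [D.avg_natural D' ρ₀.act ρ.act (by
      apply hom_ext_lift₂
      intro T g z
      rw [lift_whiskerLeft_assoc, hie T g z]) ψ x hψ₀ hc1]
  have e2 : ((AMonS S M) ◁ D.avg ψ x hψ₀) = lift (fst (AMonS S M) Z) (snd (AMonS S M) Z ≫ D.avg ψ x hψ₀) := by
    apply CartesianMonoidalCategory.hom_ext <;> simp
  rw [e2, D.avg_natural D' (snd (AMonS S M) Z₀) (snd (AMonS S M) Z) (whiskerLeft_snd _ _) ψ x hψ₀ hc2, D'.avg_act aX (fst (AMonS S M) Z) _ _ hc2 hc3,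
    ← D'.avg_tr (fst (AMonS S M) Z) _ _ hc3 hc4]
  exact D'.avg_congr _ _ e1.symm e0.symm

end Grp

end Groth.Agent.MagnetLib.Avg
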