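import Groth.Prelude.Def_Magnet
import Groth.Agent.S9208
import Groth.Agent.S12442
import Groth.Agent.H23.EqvUnr
import Mathlib.CategoryTheory.Monoidal.Cartesian.Over
import Mathlib.AlgebraicGeometry.AffineTransitionLimit

/-!
# Functors of equivariant maps preserve finite presentation

For `A` and `B` affine over `S` the functor of equivariant maps `B × T ⟶ X` turns a morphism `X ⟶ Y` locally of finite
presentation into a morphism of representing schemes which is locally of finite presentation.
-/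

set_option linter.style.haveILetI false
set_option autoImplicit false
set_option backward.isDefEq.respectTransparency false
set_option backward.isDefEq.respectTransparency.types false

universe u

open CategoryTheory CategoryTheory.Limits MonoidalCategory CartesianMonoidalCategory MonObj AlgebraicGeometry
open Opposite Magnet

namespace Groth.Agent.MagnetLib.LimPres

variable {S : Scheme.{u}}

theorem isAffineHom_snd (B : Over S) [IsAffineHom B.hom] (V : Over S) : IsAffineHom (snd B V).left :=
  MorphismProperty.pullback_snd (P := @IsAffineHom) _ _ inferInstance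

theorem isAffine_tensor (B : Over S) [IsAffineHom B.hom] (V : Over S) [IsAffine V.left] : IsAffine (B ⊗ V).left := by
  haveI := isAffineHom_snd B V
  exact isAffine_of_isAffineHom (snd B V).left

theorem isAffineHom_tensor_hom (A B : Over S) [IsAffineHom A.hom] [IsAffineHom B.hom] : IsAffineHom (A ⊗ B).hom := by
  haveI := isAffineHom_snd A B
  rw [show (A ⊗ B).hom = (snd A B).left ≫ B.hom from (Over.w (snd A B)).symm]
  infer_instance

section System

variable {J : Type u} [Preorder J] [IsDirectedOrder J] [Nonempty J] (D : Jᵒᵖ ⥤ Over S) (c : Cone D)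
  (B : Over S)

/-- The base-changed system. -/
noncomputable abbrev sys : Jᵒᵖ ⥤ Scheme.{u} := D ⋙ tensorLeft B ⋙ Over.forget S

/-- Its cone. -/
noncomputable abbrev sysCone : Cone (sys D B) where
  pt := (B ⊗ c.pt).left
  π :=
    { app := fun j => (B ◁ c.π.app j).left
      naturality := fun i j m => by
        show 𝟙 _ ≫ (B ◁ c.π.app j).left = (B ◁ c.π.app i).left ≫ (B ◁ D.map m).left
        rw [Category.id_comp, ← Over.comp_left, ← MonoidalCategory.whiskerLeft_comp, c.w] }

/-- Base change commutes with cofiltered limits. -/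
theorem nonempty_isLimit_sysCone (hc : IsLimit ((Over.forget S).mapCone c)) : Nonempty (IsLimit (sysCone D c B)) := by
  haveI : IsCofiltered Jᵒᵖ := inferInstance
  obtain ⟨j₀⟩ : Nonempty Jᵒᵖ := ⟨op (Classical.arbitrary J)⟩
  have hconst : ∀ (s : Cone (sys D B)) (i j : Jᵒᵖ),
      s.π.app i ≫ (fst B (D.obj i)).left = s.π.app j ≫ (fst B (D.obj j)).left := by
    intro s i j
    have key : ∀ {a b : Jᵒᵖ} (m : a ⟶ b),
        s.π.app a ≫ (fst B (D.obj a)).left = s.π.app b ≫ (fst B (D.obj b)).left := fun {a b} m => by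
      have h := (s.w m).symm
      rw [h, Category.assoc]
      refine congrArg (s.π.app a ≫ ·) ?_
      show _ = (B ◁ D.map m).left ≫ (fst B (D.obj b)).left
      rw [← Over.comp_left, whiskerLeft_fst]
    rw [← key (IsCofiltered.minToLeft i j), ← key (IsCofiltered.minToRight i j)]
  let proj : ∀ s : Cone (sys D B), Cone (D ⋙ Over.forget S) := fun s =>
    { pt := s.pt
      π :=
        { app := fun j => s.π.app j ≫ (snd B (D.obj j)).left
          naturality := fun i j m => by
            show 𝟙 _ ≫ s.π.app j ≫ (snd B (D.obj j)).left = (s.π.app i ≫ (snd B (D.obj i)).left) ≫ (D.map m).left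
            rw [Category.id_comp, Category.assoc, ← Over.comp_left, ← whiskerLeft_snd B (D.map m), Over.comp_left,
              ← Category.assoc]
            exact congrArg (· ≫ _) (s.w m).symm } }
  have hcond : ∀ s : Cone (sys D B), (s.π.app j₀ ≫ (fst B (D.obj j₀)).left) ≫ B.hom = hc.lift (proj s) ≫ c.pt.hom := by
    intro s
    have h1 : hc.lift (proj s) ≫ (c.π.app j₀).left = s.π.app j₀ ≫ (snd B (D.obj j₀)).left := hc.fac (proj s) j₀
    have h2 : (fst B (D.obj j₀)).left ≫ B.hom = (snd B (D.obj j₀)).left ≫ (D.obj j₀).hom := pullback.condition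
    have hw : (c.π.app j₀).left ≫ (D.obj j₀).hom = c.pt.hom := Over.w (c.π.app j₀)
    rw [← hw, reassoc_of% h1, Category.assoc, h2]
  refine ⟨{ lift := fun s => pullback.lift (s.π.app j₀ ≫ (fst B (D.obj j₀)).left) (hc.lift (proj s)) (hcond s),
            fac := fun s j => ?_, uniq := fun s m hm => ?_ }⟩
  · refine pullback.hom_ext (f := B.hom) (g := (D.obj j).hom) ?_ ?_
    · show (_ ≫ (B ◁ c.π.app j).left) ≫ (fst B (D.obj j)).left = _
      rw [Category.assoc, ← Over.comp_left, whiskerLeft_fst]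
      exact (pullback.lift_fst _ _ _).trans (hconst s j₀ j)
    · show (_ ≫ (B ◁ c.π.app j).left) ≫ (snd B (D.obj j)).left = _
      rw [Category.assoc, ← Over.comp_left, whiskerLeft_snd, Over.comp_left, ← Category.assoc]
      refine (congrArg (· ≫ (c.π.app j).left) (pullback.lift_snd _ _ _)).trans ?_
      exact hc.fac (proj s) j
  · refine pullback.hom_ext (f := B.hom) (g := c.pt.hom) ?_ ?_
    · refine Eq.trans ?_ (pullback.lift_fst _ _ _).symm
      show m ≫ (fst B c.pt).left = _
      rw [← hm j₀, Category.assoc]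
      refine congrArg (m ≫ ·) ?_
      show _ = (B ◁ c.π.app j₀).left ≫ (fst B (D.obj j₀)).left
      rw [← Over.comp_left, whiskerLeft_fst]
      rfl
    · refine Eq.trans ?_ (pullback.lift_snd _ _ _).symm
      refine hc.hom_ext fun j => ?_
      refine Eq.trans ?_ (hc.fac (proj s) j).symm
      show (m ≫ (snd B c.pt).left) ≫ (c.π.app j).left = s.π.app j ≫ (snd B (D.obj j)).left
      rw [← hm j, Category.assoc, Category.assoc]
      refine congrArg (m ≫ ·) ?_
      show _ = (B ◁ c.π.app j).left ≫ (snd B (D.obj j)).left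
      rw [← Over.comp_left, ← Over.comp_left, whiskerLeft_snd]
      rfl

end System

section Main

variable {A B X Y : Over S} [MonObj A] [IsAffineHom A.hom] [IsAffineHom B.hom] (ρ : MonAct A B)
  (aX : MonAct A X) (aY : MonAct A Y) (f : X ⟶ Y) (hf : MonAct.IsEquivariant aX aY f)

include hf in
/-- Equivariant families over a limit descend to some stage. -/
theorem exists_stage [LocallyOfFinitePresentation f.left] {J : Type u} [Preorder J] [IsDirectedOrder J] [Nonempty J]
    (D : Jᵒᵖ ⥤ Over S) (hD : ∀ j, IsAffine (D.obj j).left) (c : Cone D) (hc : IsLimit ((Over.forget S).mapCone c))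
    (y : ∀ j, B ⊗ D.obj j ⟶ Y) (hy : ∀ j, MonAct.IsEquivariant (ρ.prod (MonAct.trivial A (D.obj j))) aY (y j))
    (hyn : ∀ {i j : Jᵒᵖ} (m : i ⟶ j), (B ◁ D.map m) ≫ y j = y i)
    (x : B ⊗ c.pt ⟶ X) (hx : MonAct.IsEquivariant (ρ.prod (MonAct.trivial A c.pt)) aX x)
    (hxy : ∀ j, x ≫ f = (B ◁ c.π.app j) ≫ y j) :
    ∃ (j : Jᵒᵖ) (xj : B ⊗ D.obj j ⟶ X), MonAct.IsEquivariant (ρ.prod (MonAct.trivial A (D.obj j))) aX xj ∧
      xj ≫ f = y j ∧ (B ◁ c.π.app j) ≫ xj = x := by
  haveI : IsAffineHom (A ⊗ B).hom := isAffineHom_tensor_hom A B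
  haveI : ∀ j, IsAffine ((sys D B).obj j) := fun j => by
    haveI := hD j
    exact isAffine_tensor B (D.obj j)
  haveI : ∀ j, IsAffine ((sys D (A ⊗ B)).obj j) := fun j => by
    haveI := hD j
    exact isAffine_tensor (A ⊗ B) (D.obj j)
  haveI : ∀ {i j : Jᵒᵖ} (m : i ⟶ j), IsAffineHom ((sys D B).map m) := fun {i j} m => inferInstance
  haveI : ∀ {i j : Jᵒᵖ} (m : i ⟶ j), IsAffineHom ((sys D (A ⊗ B)).map m) := fun {i j} m => inferInstance
  obtain ⟨hlim⟩ := nonempty_isLimit_sysCone D c B hc
  obtain ⟨hlim'⟩ := nonempty_isLimit_sysCone D c (A ⊗ B) hc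
  let t : sys D B ⟶ (Functor.const _).obj Y.left :=
    { app := fun j => (y j).left
      naturality := fun i j m => by
        show (B ◁ D.map m).left ≫ (y j).left = (y i).left ≫ 𝟙 _
        rw [Category.comp_id, ← Over.comp_left, hyn] }
  obtain ⟨i, l, hl1, hl2⟩ := Scheme.exists_π_app_comp_eq_of_locallyOfFinitePresentation (sys D B) t f.left
    (sysCone D c B) hlim x.left (by
      ext j : 2
      show (B ◁ c.π.app j).left ≫ (y j).left = x.left ≫ f.left
      rw [← Over.comp_left, ← Over.comp_left, hxy j])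
  change (B ◁ c.π.app i).left ≫ l = x.left at hl1
  change l ≫ f.left = (y i).left at hl2
  let lO : B ⊗ D.obj i ⟶ X := Over.homMk l (by rw [← Over.w f, ← Category.assoc, hl2, Over.w])
  have hlf : lO ≫ f = y i := Over.OverMorphism.ext hl2
  have hlx : (B ◁ c.π.app i) ≫ lO = x := Over.OverMorphism.ext hl1
  unfold MonAct.IsEquivariant at hy hx hf
  let t' : sys D (A ⊗ B) ⟶ (Functor.const _).obj Y.left :=
    { app := fun j => ((α_ A B (D.obj j)).hom ≫ (ρ.prod (MonAct.trivial A (D.obj j))).act ≫ y j).left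
      naturality := fun i j m => by
        show ((A ⊗ B) ◁ D.map m).left ≫ _ = _ ≫ 𝟙 _
        rw [Category.comp_id, ← Over.comp_left, associator_naturality_right_assoc,
          ← MonAct.prod_trivial_act_whiskerLeft_assoc, hyn] }
  have hcomm : ∀ (V : Over S) (v : V ⟶ D.obj i) (z : B ⊗ V ⟶ X), (B ◁ v) ≫ lO = z →
      ((A ⊗ B) ◁ v) ≫ (α_ A B (D.obj i)).hom ≫ (ρ.prod (MonAct.trivial A (D.obj i))).act ≫ lO =
          (α_ A B V).hom ≫ (ρ.prod (MonAct.trivial A V)).act ≫ z ∧
        ((A ⊗ B) ◁ v) ≫ (α_ A B (D.obj i)).hom ≫ (A ◁ lO) ≫ aX.act = (α_ A B V).hom ≫ (A ◁ z) ≫ aX.act := by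
    intro V v z hz
    refine ⟨?_, ?_⟩
    · rw [associator_naturality_right_assoc, ← MonAct.prod_trivial_act_whiskerLeft_assoc, hz]
    · rw [associator_naturality_right_assoc, ← MonoidalCategory.whiskerLeft_comp_assoc, hz]
  obtain ⟨e1, e2⟩ := hcomm _ (c.π.app i) x hlx
  obtain ⟨k, hki, hk⟩ := Scheme.exists_hom_comp_eq_comp_of_locallyOfFiniteType (sys D (A ⊗ B)) t' f.left
    (sysCone D c (A ⊗ B)) hlim'
    ((α_ A B (D.obj i)).hom ≫ (ρ.prod (MonAct.trivial A (D.obj i))).act ≫ lO).left
    ((α_ A B (D.obj i)).hom ≫ (A ◁ lO) ≫ aX.act).left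
    (by
      show ((α_ A B (D.obj i)).hom ≫ _ ≫ y i).left = _
      rw [← Over.comp_left, Category.assoc, Category.assoc, hlf])
    (by
      show ((α_ A B (D.obj i)).hom ≫ _ ≫ y i).left = _
      rw [← Over.comp_left, Category.assoc, Category.assoc, hf, ← MonoidalCategory.whiskerLeft_comp_assoc, hlf, ← hy i])
    (by
      show ((A ⊗ B) ◁ c.π.app i).left ≫ _ = ((A ⊗ B) ◁ c.π.app i).left ≫ _
      rw [← Over.comp_left, ← Over.comp_left, e1, e2]
      exact congrArg (fun q => ((α_ A B c.pt).hom ≫ q).left) hx)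
  change ((A ⊗ B) ◁ D.map hki).left ≫ _ = ((A ⊗ B) ◁ D.map hki).left ≫ _ at hk
  rw [← Over.comp_left, ← Over.comp_left] at hk
  obtain ⟨e3, e4⟩ := hcomm _ (D.map hki) _ rfl
  refine ⟨k, (B ◁ D.map hki) ≫ lO, ?_, ?_, ?_⟩
  · have := Over.OverMorphism.ext hk
    rw [e3, e4] at this
    exact (cancel_epi (α_ A B (D.obj k)).hom).mp this
  · rw [Category.assoc, hlf, hyn]
  · rw [← Category.assoc, ← MonoidalCategory.whiskerLeft_comp, c.w, hlx]

include hf in
/-- The map of representing schemes is locally of finite presentation. -/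
theorem locallyOfFinitePresentation_of_representableBy [LocallyOfFinitePresentation f.left] {ZX ZY : Over S}
    (eX : (MonAct.eqvHom ρ aX).RepresentableBy ZX) (eY : (MonAct.eqvHom ρ aY).RepresentableBy ZY) (j : ZX ⟶ ZY)
    (hj : ∀ (T : Over S) (z : T ⟶ ZX),
      eY.homEquiv (z ≫ j) = (MonAct.eqvHom.postcomp ρ f hf).app (op T) (eX.homEquiv z)) :
    LocallyOfFinitePresentation j.left := by
  refine Groth.Agent.S9208.result j.left ?_
  intro J _ _ _ D t c hc hD j₀ g hg
  haveI : IsConnected Jᵒᵖ := IsCofiltered.isConnected _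
  have ht : ∀ {a b : Jᵒᵖ} (m : a ⟶ b), D.map m ≫ t.app b = t.app a := fun {a b} m =>
    (t.naturality m).trans (Category.comp_id _)
  have hπ : ∀ a, c.π.app a ≫ t.app a = c.π.app j₀ ≫ t.app j₀ := fun a => by
    rw [← c.w (IsCofiltered.minToLeft a j₀), ← c.w (IsCofiltered.minToRight a j₀), Category.assoc, Category.assoc,
      ht, ht]
  let D' : Jᵒᵖ ⥤ Over S :=
    { obj := fun a => Over.mk (t.app a ≫ ZY.hom)
      map := fun {a b} m => Over.homMk (D.map m) (by
        show D.map m ≫ t.app b ≫ ZY.hom = t.app a ≫ ZY.hom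
        rw [← Category.assoc, ht m])
      map_id := fun a => Over.OverMorphism.ext (D.map_id a)
      map_comp := fun m n => Over.OverMorphism.ext (D.map_comp m n) }
  let T : Over S := Over.mk ((c.π.app j₀ ≫ t.app j₀) ≫ ZY.hom)
  let c' : Cone D' :=
    { pt := T
      π :=
        { app := fun a => Over.homMk (c.π.app a) (by
            show c.π.app a ≫ t.app a ≫ ZY.hom = (c.π.app j₀ ≫ t.app j₀) ≫ ZY.hom
            rw [← Category.assoc, hπ a])
          naturality := fun a b m => Over.OverMorphism.ext (c.π.naturality m) } }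
  have hc' : IsLimit ((Over.forget S).mapCone c') :=
    { lift := fun s => hc.lift ⟨s.pt, { app := fun a => s.π.app a, naturality := fun a b m => s.π.naturality m }⟩
      fac := fun s a => hc.fac _ a
      uniq := fun s m hm => hc.hom_ext fun a => (hm a).trans (hc.fac _ a).symm }
  let ty : ∀ a, D'.obj a ⟶ ZY := fun a => Over.homMk (t.app a) rfl
  let gO : T ⟶ ZX := Over.homMk g (by
    show g ≫ ZX.hom = (c.π.app j₀ ≫ t.app j₀) ≫ ZY.hom
    rw [← hg, Category.assoc, Over.w])
  obtain ⟨a, xa, hxa, hxaf, hxac⟩ := exists_stage ρ aX aY f hf D' hD c' hc'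
    (fun a => (eY.homEquiv (ty a)).1) (fun a => (eY.homEquiv (ty a)).2)
    (fun {a b} m => by
      have e : D'.map m ≫ ty b = ty a := Over.OverMorphism.ext (ht m)
      rw [← e, eY.homEquiv_comp]
      rfl)
    (eX.homEquiv gO).1 (eX.homEquiv gO).2
    (fun a => by
      have e : gO ≫ j = c'.π.app a ≫ ty a := Over.OverMorphism.ext (hg.trans (hπ a).symm)
      have := hj T gO
      rw [e, eY.homEquiv_comp] at this
      exact (congrArg Subtype.val this).symm)
  let za : D'.obj a ⟶ ZX := eX.homEquiv.symm ⟨xa, hxa⟩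
  refine ⟨a, za.left, ?_, ?_⟩
  · have e : za ≫ j = ty a := by
      apply eY.homEquiv.injective
      rw [hj, Equiv.apply_symm_apply]
      exact Subtype.ext hxaf
    exact congrArg Over.Hom.left e
  · have e : c'.π.app a ≫ za = gO := by
      apply eX.homEquiv.injective
      rw [eX.homEquiv_comp, Equiv.apply_symm_apply]
      exact Subtype.ext hxac
    exact congrArg Over.Hom.left e

end Main

end Groth.Agent.MagnetLib.LimPres
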