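import Groth.Agent.H28.MagnetTheta
import Groth.Agent.RingPO.Affine

/-!
# Averaging over a diagonalizable group along a square-zero thickening

For a square-zero thickening `i : W₀ ⟶ W` of affine schemes the pushout `P` of
`D(M) × W ⟵ D(M) × W₀ ⟶ W₀` carries a section `θ : W ⟶ P` of the evident map `P ⟶ W`, given on
functions by "coefficient at `0`".  Composition with `θ` averages over `D(M)`.
-/

set_option linter.style.haveILetI false

universe u

open CategoryTheory CategoryTheory.Limits MonoidalCategory CartesianMonoidalCategory MonObj AlgebraicGeometry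
open Opposite Magnet

set_option autoImplicit false

namespace Groth.Agent.MagnetLib.Avg

open H23.CharPts H28.MagnetAff

variable {S : Scheme.{u}} {M : Type} [AddCommMonoid M]

theorem mapRingHom_ker_mem {R R' : Type u} [CommRing R] [CommRing R'] (φ : R →+* R')
    {x : MonoidAlgebra R (Multiplicative M)} (hx : MonoidAlgebra.mapRingHom (Multiplicative M) φ x = 0) :
    x ∈ (RingHom.ker φ).map (MonoidAlgebra.singleOneRingHom : R →+* MonoidAlgebra R (Multiplicative M)) := by
  classical
  rw [← MonoidAlgebra.sum_coeff_single x]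
  refine Ideal.sum_mem _ fun m _ => ?_
  rw [show MonoidAlgebra.single m (x.coeff m) = MonoidAlgebra.single 1 (x.coeff m) * MonoidAlgebra.single m 1 by
    rw [MonoidAlgebra.single_mul_single, _root_.one_mul, _root_.mul_one]]
  refine Ideal.mul_mem_right _ _ (Ideal.mem_map_of_mem _ ?_)
  have h := congrArg (fun q => q.coeff m) hx
  rw [RingHom.mem_ker]
  simpa [MonoidAlgebra.coeff_mapRingHom] using h

theorem mapRingHom_ker_mul {R R' : Type u} [CommRing R] [CommRing R'] (φ : R →+* R') (hsq : RingHom.ker φ ^ 2 = ⊥)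
    {x y : MonoidAlgebra R (Multiplicative M)} (hx : MonoidAlgebra.mapRingHom (Multiplicative M) φ x = 0)
    (hy : MonoidAlgebra.mapRingHom (Multiplicative M) φ y = 0) : x * y = 0 := by
  have h := Ideal.mul_mem_mul (mapRingHom_ker_mem φ hx) (mapRingHom_ker_mem φ hy)
  rw [← Ideal.map_mul, ← sq, hsq, Ideal.map_bot, Ideal.mem_bot] at h
  exact h

theorem mapRingHom_surjective {R R' : Type u} [CommRing R] [CommRing R'] (φ : R →+* R') (hφ : Function.Surjective φ) :
    Function.Surjective (MonoidAlgebra.mapRingHom (Multiplicative M) φ) := by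
  intro y
  induction y using MonoidAlgebra.induction_linear with
  | zero => exact ⟨0, map_zero _⟩
  | add a b ha hb =>
    obtain ⟨a', rfl⟩ := ha
    obtain ⟨b', rfl⟩ := hb
    exact ⟨a' + b', map_add _ _ _⟩
  | single m r =>
    obtain ⟨r', rfl⟩ := hφ r
    exact ⟨MonoidAlgebra.single m r', MonoidAlgebra.mapRingHom_single _ _ _⟩

/-- The coefficient at `0` is multiplicative on elements which are constant modulo a square-zero ideal. -/
theorem coeff_one_mul {R R' : Type u} [CommRing R] [CommRing R'] (φ : R →+* R') (hsq : RingHom.ker φ ^ 2 = ⊥)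
    {x y : MonoidAlgebra R (Multiplicative M)} {b c : R'}
    (hx : MonoidAlgebra.mapRingHom (Multiplicative M) φ x = MonoidAlgebra.single 1 b)
    (hy : MonoidAlgebra.mapRingHom (Multiplicative M) φ y = MonoidAlgebra.single 1 c) :
    (x * y).coeff 1 = x.coeff 1 * y.coeff 1 := by
  have hb : φ (x.coeff 1) = b := by
    have := congrArg (fun q => q.coeff 1) hx
    simpa [MonoidAlgebra.coeff_mapRingHom] using this
  have hc : φ (y.coeff 1) = c := by
    have := congrArg (fun q => q.coeff 1) hy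
    simpa [MonoidAlgebra.coeff_mapRingHom] using this
  have h0 : (x - MonoidAlgebra.single 1 (x.coeff 1)) * (y - MonoidAlgebra.single 1 (y.coeff 1)) = 0 :=
    mapRingHom_ker_mul φ hsq (by rw [map_sub, hx, MonoidAlgebra.mapRingHom_single, hb, sub_self])
      (by rw [map_sub, hy, MonoidAlgebra.mapRingHom_single, hc, sub_self])
  have h1 : x * y = MonoidAlgebra.single 1 (x.coeff 1) * y + x * MonoidAlgebra.single 1 (y.coeff 1) -
      MonoidAlgebra.single 1 (x.coeff 1 * y.coeff 1) := by
    rw [← sub_eq_zero, ← h0]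
    have : MonoidAlgebra.single (1 : Multiplicative M) (x.coeff 1 * y.coeff 1) =
        MonoidAlgebra.single 1 (x.coeff 1) * MonoidAlgebra.single 1 (y.coeff 1) := by
      rw [MonoidAlgebra.single_mul_single, _root_.one_mul]
    rw [this]
    ring
  rw [h1, MonoidAlgebra.coeff_sub, MonoidAlgebra.coeff_add, Finsupp.sub_apply, Finsupp.add_apply,
    MonoidAlgebra.coeff_single_one_mul, MonoidAlgebra.coeff_mul_single_one, MonoidAlgebra.coeff_single, Finsupp.single_eq_same]
  ring

theorem ext_appTop {W V : Scheme.{u}} [IsAffine V] {f g : W ⟶ V} (h : ∀ v, f.appTop v = g.appTop v) : f = g :=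
  ext_of_isAffine (CommRingCat.hom_ext (RingHom.ext h))

theorem exists_hom_appTop {W V : Scheme.{u}} [IsAffine V] (ψ : Γ(V, ⊤) →+* Γ(W, ⊤)) :
    ∃ f : W ⟶ V, ∀ v, f.appTop v = ψ v := by
  refine ⟨W.toSpecΓ ≫ Spec.map (CommRingCat.ofHom ψ) ≫ V.isoSpec.inv, fun v => ?_⟩
  haveI : IsIso V.isoSpec.hom.appTop := inferInstanceAs (IsIso (V.isoSpec.hom.app ⊤))
  have hinv : V.isoSpec.inv.appTop = (Scheme.ΓSpecIso Γ(V, ⊤)).inv ≫ 𝟙 _ := by
    rw [← cancel_mono V.isoSpec.hom.appTop, ← Scheme.Hom.comp_appTop, Iso.hom_inv_id]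
    simp [Scheme.isoSpec_hom, Scheme.toSpecΓ_appTop]
  have h : (W.toSpecΓ ≫ Spec.map (CommRingCat.ofHom ψ) ≫ V.isoSpec.inv).appTop = CommRingCat.ofHom ψ := by
    rw [Scheme.Hom.comp_appTop, Scheme.Hom.comp_appTop, hinv, Category.comp_id, ← Scheme.ΓSpecIso_inv_naturality,
      Category.assoc, Scheme.toSpecΓ_appTop]
    exact (congrArg (_ ≫ ·) (Scheme.ΓSpecIso _).inv_hom_id).trans (Category.comp_id _)
  exact ConcreteCategory.congr_hom h v

theorem co_comp (W : Over S) [IsAffine W.left] {V V' : Over S} (h : AMonS S M ⊗ W ⟶ V) (k : V ⟶ V') (v : RR V') :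
    co W (h ≫ k) v = co W h (k.left.appTop v) := by
  refine (theta_iso M W).2.1 ?_
  rw [theta_co, theta_co]
  rfl

/-- The data of an averaging pushout. -/
structure Data {W₀ W : Over S} [IsAffine W.left] (i : W₀ ⟶ W) where
  P : Over S
  affine : IsAffine P.left
  a : AMonS S M ⊗ W ⟶ P
  b : W₀ ⟶ P
  s : P ⟶ W
  θ : W ⟶ P
  po : IsPushout (AMonS S M ◁ i) (snd (AMonS S M) W₀) a b
  a_s : a ≫ s = snd _ W
  b_s : b ≫ s = i
  θ_s : θ ≫ s = 𝟙 W
  i_θ : i ≫ θ = b
  θ_appTop : ∀ v, θ.left.appTop v = (co W a v).coeff 1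

theorem exists_data {W₀ W : Over S} [IsAffine W.left] [IsAffine W₀.left] (i : W₀ ⟶ W)
    (hi : Function.Surjective i.left.appTop.hom) (hsq : RingHom.ker i.left.appTop.hom ^ 2 = ⊥) :
    Nonempty (Data (M := M) i) := by
  classical
  let φ : RR W →+* RR W₀ := i.left.appTop.hom
  let mφ := MonoidAlgebra.mapRingHom (Multiplicative M) φ
  let one₀ : RR W₀ →+* MonoidAlgebra (RR W₀) (Multiplicative M) := MonoidAlgebra.singleOneRingHom
  let C : Subring (MonoidAlgebra (RR W) (Multiplicative M) × RR W₀) :=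
    RingHom.eqLocus (mφ.comp (RingHom.fst _ _)) (one₀.comp (RingHom.snd _ _))
  let α : C →+* MonoidAlgebra (RR W) (Multiplicative M) := (RingHom.fst _ _).comp C.subtype
  let β : C →+* RR W₀ := (RingHom.snd _ _).comp C.subtype
  let one : RR W →+* MonoidAlgebra (RR W) (Multiplicative M) := MonoidAlgebra.singleOneRingHom
  let σ : RR W →+* C := (one.prod φ).codRestrict C fun r => MonoidAlgebra.mapRingHom_single _ _ _
  have hfp : RingPO.IsFibreProd mφ one₀ α β :=
    { surj := mapRingHom_surjective φ hi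
      comm := fun z => z.2
      ext := fun z z' h1 h2 => Subtype.ext (Prod.ext h1 h2)
      exists_of_eq := fun b a h => ⟨⟨(a, b), h⟩, rfl, rfl⟩ }
  let π : C →+* RR W :=
    { toFun := fun z => (α z).coeff 1
      map_one' := by simp [α]
      map_mul' := fun x y => coeff_one_mul φ hsq x.2 y.2
      map_zero' := by simp [α]
      map_add' := fun x y => by simp [α] }
  let PS := Spec (CommRingCat.of C)
  let gm := Scheme.ΓSpecIso (CommRingCat.of C)
  obtain ⟨s', hs'⟩ := exists_hom_appTop (W := PS) (V := W.left) (gm.inv.hom.comp σ)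
  obtain ⟨a', ha'⟩ := exists_hom_appTop (W := (AMonS S M ⊗ W).left) (V := PS) (((theta M W).comp α).comp gm.hom.hom)
  obtain ⟨b', hb'⟩ := exists_hom_appTop (W := W₀.left) (V := PS) (β.comp gm.hom.hom)
  obtain ⟨θ', hθ'⟩ := exists_hom_appTop (W := W.left) (V := PS) (π.comp gm.hom.hom)
  have hgm : ∀ z : C, gm.hom (gm.inv z) = z := fun z => Iso.inv_hom_id_apply gm z
  have e1 : a' ≫ s' = (snd (AMonS S M) W).left := ext_appTop fun v => by
    rw [Scheme.Hom.comp_appTop]
    show a'.appTop (s'.appTop v) = _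
    rw [hs', ha']
    show theta M W (α (gm.hom (gm.inv (σ v)))) = _
    rw [hgm]
    show theta M W (MonoidAlgebra.single 1 v) = _
    rw [theta_single, map_one, _root_.mul_one]
  have e2 : b' ≫ s' = i.left := ext_appTop fun v => by
    rw [Scheme.Hom.comp_appTop]
    show b'.appTop (s'.appTop v) = _
    rw [hs', hb']
    show β (gm.hom (gm.inv (σ v))) = _
    rw [hgm]
    rfl
  have e3 : θ' ≫ s' = 𝟙 W.left := ext_appTop fun v => by
    rw [Scheme.Hom.comp_appTop, Scheme.Hom.id_appTop]
    show θ'.appTop (s'.appTop v) = v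
    rw [hs', hθ']
    show (α (gm.hom (gm.inv (σ v)))).coeff 1 = v
    rw [hgm]
    show (MonoidAlgebra.single (1 : Multiplicative M) v).coeff 1 = v
    simp
  let P : Over S := Over.mk (s' ≫ W.hom)
  haveI : IsAffine P.left := inferInstanceAs (IsAffine PS)
  let a : AMonS S M ⊗ W ⟶ P := Over.homMk a' (by
    show a' ≫ s' ≫ W.hom = _
    rw [← Category.assoc, e1, Over.w])
  let b : W₀ ⟶ P := Over.homMk b' (by
    show b' ≫ s' ≫ W.hom = _
    rw [← Category.assoc, e2, Over.w])
  let θ : W ⟶ P := Over.homMk θ' (by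
    show θ' ≫ s' ≫ W.hom = _
    rw [← Category.assoc, e3, Category.id_comp])
  -- identifications with spectra
  haveI := (theta_iso M W).1
  haveI := (theta_iso M W₀).1
  let ee : ∀ (V : Over S) [IsAffine V.left],
      Spec (CommRingCat.of (MonoidAlgebra (RR V) (Multiplicative M))) ≅ (AMonS S M ⊗ V).left := fun V _ =>
    (Scheme.Spec.mapIso (thetaEquiv V M).toCommRingCatIso.op).symm ≪≫
      (haveI := (theta_iso M V).1; (AMonS S M ⊗ V).left.isoSpec.symm)
  have hη : ∀ (V : Over S) [IsAffine V.left] (v : Γ((AMonS S M ⊗ V).left, ⊤)),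
      (ee V).hom.appTop v = (Scheme.ΓSpecIso _).inv ((thetaEquiv V M).symm v) := fun V _ v => by
    haveI := (theta_iso M V).1
    let q : CommRingCat.of Γ((AMonS S M ⊗ V).left, ⊤) ⟶ CommRingCat.of (MonoidAlgebra (RR V) (Multiplicative M)) :=
      (thetaEquiv V M).toCommRingCatIso.inv
    have hh : (ee V).inv = (AMonS S M ⊗ V).left.toSpecΓ ≫ Spec.map (thetaEquiv V M).toCommRingCatIso.hom := rfl
    have h1 : (ee V).inv.appTop ((Scheme.ΓSpecIso _).inv ((thetaEquiv V M).symm v)) = v := by
      rw [hh, Scheme.Hom.comp_appTop]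
      show (AMonS S M ⊗ V).left.toSpecΓ.appTop
        ((Spec.map (thetaEquiv V M).toCommRingCatIso.hom).appTop ((Scheme.ΓSpecIso _).inv ((thetaEquiv V M).symm v))) = v
      have h2 := ConcreteCategory.congr_hom
        (Scheme.ΓSpecIso_inv_naturality (thetaEquiv V M).toCommRingCatIso.hom) ((thetaEquiv V M).symm v)
      refine (congrArg _ h2.symm).trans ?_
      rw [Scheme.toSpecΓ_appTop]
      show (Scheme.ΓSpecIso _).hom ((Scheme.ΓSpecIso _).inv (thetaEquiv V M ((thetaEquiv V M).symm v))) = v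
      rw [RingEquiv.apply_symm_apply]
      exact Iso.inv_hom_id_apply _ _
    conv_lhs => rw [← h1]
    rw [← CategoryTheory.comp_apply, ← Scheme.Hom.comp_appTop, Iso.hom_inv_id, Scheme.Hom.id_appTop]
    rfl
  have ha : (ee W).hom ≫ a' = Spec.map (CommRingCat.ofHom α) := ext_appTop fun v => by
    rw [Scheme.Hom.comp_appTop]
    show (ee W).hom.appTop (a'.appTop v) = _
    rw [ha', hη]
    show (Scheme.ΓSpecIso (CommRingCat.of (MonoidAlgebra (RR W) (Multiplicative M)))).inv
      ((thetaEquiv W M).symm (thetaEquiv W M (α (gm.hom v)))) = _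
    rw [RingEquiv.symm_apply_apply]
    exact ConcreteCategory.congr_hom
      ((Iso.eq_comp_inv _).mpr (Scheme.ΓSpecIso_naturality (CommRingCat.ofHom α))).symm v
  have hb : W₀.left.isoSpec.inv ≫ b' = Spec.map (CommRingCat.ofHom β) := ext_appTop fun v => by
    rw [Scheme.Hom.comp_appTop]
    show W₀.left.isoSpec.inv.appTop (b'.appTop v) = _
    rw [hb']
    haveI : IsIso W₀.left.isoSpec.hom.appTop := inferInstanceAs (IsIso (W₀.left.isoSpec.hom.app ⊤))
    have hinv : W₀.left.isoSpec.inv.appTop = (Scheme.ΓSpecIso Γ(W₀.left, ⊤)).inv ≫ 𝟙 _ := by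
      rw [← cancel_mono W₀.left.isoSpec.hom.appTop, ← Scheme.Hom.comp_appTop, Iso.hom_inv_id]
      simp [Scheme.isoSpec_hom, Scheme.toSpecΓ_appTop]
    rw [hinv]
    exact ConcreteCategory.congr_hom
      ((Iso.eq_comp_inv _).mpr (Scheme.ΓSpecIso_naturality (CommRingCat.ofHom β))).symm v
  have hp : (ee W₀).hom ≫ (AMonS S M ◁ i).left = Spec.map (CommRingCat.ofHom mφ) ≫ (ee W).hom :=
    ext_appTop fun v => by
      obtain ⟨x, rfl⟩ := (thetaEquiv W M).surjective v
      rw [Scheme.Hom.comp_appTop, Scheme.Hom.comp_appTop]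
      show (ee W₀).hom.appTop ((AMonS S M ◁ i).left.appTop.hom.comp (theta M W) x) = _
      rw [theta_whisker, RingHom.comp_apply, hη]
      show (Scheme.ΓSpecIso _).inv ((thetaEquiv W₀ M).symm (thetaEquiv W₀ M (mφ x))) =
        (Spec.map (CommRingCat.ofHom mφ)).appTop ((ee W).hom.appTop (thetaEquiv W M x))
      rw [hη, RingEquiv.symm_apply_apply, RingEquiv.symm_apply_apply]
      exact ConcreteCategory.congr_hom (Scheme.ΓSpecIso_inv_naturality (CommRingCat.ofHom mφ)) x
  have hq : (ee W₀).hom ≫ (snd (AMonS S M) W₀).left = Spec.map (CommRingCat.ofHom one₀) ≫ W₀.left.isoSpec.inv :=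
    ext_appTop fun r => by
      rw [Scheme.Hom.comp_appTop, Scheme.Hom.comp_appTop]
      show (ee W₀).hom.appTop ((snd (AMonS S M) W₀).left.appTop r) = _
      have : (snd (AMonS S M) W₀).left.appTop r = theta M W₀ (one₀ r) := by
        show _ = theta M W₀ (MonoidAlgebra.single 1 r)
        rw [theta_single, map_one, _root_.mul_one]
      rw [this, hη]
      show (Scheme.ΓSpecIso (CommRingCat.of (MonoidAlgebra (RR W₀) (Multiplicative M)))).inv
        ((thetaEquiv W₀ M).symm (thetaEquiv W₀ M (one₀ r))) = _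
      rw [RingEquiv.symm_apply_apply]
      haveI : IsIso W₀.left.isoSpec.hom.appTop := inferInstanceAs (IsIso (W₀.left.isoSpec.hom.app ⊤))
      have hinv : W₀.left.isoSpec.inv.appTop = (Scheme.ΓSpecIso Γ(W₀.left, ⊤)).inv ≫ 𝟙 _ := by
        rw [← cancel_mono W₀.left.isoSpec.hom.appTop, ← Scheme.Hom.comp_appTop, Iso.hom_inv_id]
        simp [Scheme.isoSpec_hom, Scheme.toSpecΓ_appTop]
      rw [hinv]
      exact ConcreteCategory.congr_hom (Scheme.ΓSpecIso_inv_naturality (CommRingCat.ofHom one₀)) r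
  have hpo : IsPushout (AMonS S M ◁ i).left (snd (AMonS S M) W₀).left a' b' :=
    hfp.isPushout.of_iso (ee W₀) (ee W) W₀.left.isoSpec.symm (Iso.refl PS) hp.symm hq.symm
      (by rw [Iso.refl_hom, Category.comp_id, ha]) (by rw [Iso.refl_hom, Category.comp_id, Iso.symm_hom, hb])
  have hpo' : IsPushout (AMonS S M ◁ i) (snd (AMonS S M) W₀) a b := by
    have w : (AMonS S M ◁ i) ≫ a = snd (AMonS S M) W₀ ≫ b := Over.OverMorphism.ext hpo.w
    refine ⟨⟨w⟩, ⟨PushoutCocone.IsColimit.mk _
      (fun c => Over.homMk (hpo.desc c.inl.left c.inr.left (congrArg Over.Hom.left c.condition)) ?_)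
      (fun c => Over.OverMorphism.ext (hpo.inl_desc _ _ _)) (fun c => Over.OverMorphism.ext (hpo.inr_desc _ _ _))
      (fun c m h1 h2 => Over.OverMorphism.ext (hpo.hom_ext
        ((congrArg Over.Hom.left h1).trans (hpo.inl_desc _ _ _).symm)
        ((congrArg Over.Hom.left h2).trans (hpo.inr_desc _ _ _).symm)))⟩⟩
    apply hpo.hom_ext
    · rw [hpo.inl_desc_assoc]
      exact (Over.w c.inl).trans (Over.w a).symm
    · rw [hpo.inr_desc_assoc]
      exact (Over.w c.inr).trans (Over.w b).symm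
  refine ⟨{ P := P, affine := inferInstanceAs (IsAffine PS), a := a, b := b, s := Over.homMk s' rfl, θ := θ,
            po := hpo', a_s := Over.OverMorphism.ext e1, b_s := Over.OverMorphism.ext e2,
            θ_s := Over.OverMorphism.ext e3, i_θ := ?_, θ_appTop := ?_ }⟩
  · refine Over.OverMorphism.ext (ext_appTop fun v => ?_)
    show φ (θ'.appTop v) = b'.appTop v
    rw [hθ', hb']
    have := congrArg (fun q => q.coeff 1) (gm.hom v).2
    simpa [mφ, one₀, π, α, β, MonoidAlgebra.coeff_mapRingHom] using this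
  · intro v
    show θ'.appTop v = (co W a v).coeff 1
    rw [hθ', show co W a v = α (gm.hom v) from (theta_iso M W).2.1 ((theta_co W a v).trans (ha' v))]
    rfl

end Groth.Agent.MagnetLib.Avg
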