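import Groth.Agent.MagnetLib.Avg.Face
import Groth.Agent.MagnetLib.Avg.LimPres

/-!
# Smoothness of maps of attractors
-/

set_option linter.style.haveILetI false
set_option autoImplicit false

universe u

open CategoryTheory CategoryTheory.Limits MonoidalCategory CartesianMonoidalCategory MonObj AlgebraicGeometry
open Opposite Magnet

namespace Groth.Agent.MagnetLib.Avg

variable {S : Scheme.{u}} {M : Type} [AddCommGroup M]

theorem isAffineHom_AMonS (K : Type) [AddCommMonoid K] : IsAffineHom (AMonS S K).hom := by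
  haveI : IsAffine (AMon (ULift.{u} ℤ) K).left := inferInstanceAs (IsAffine (Spec _))
  exact MorphismProperty.pullback_snd (P := @IsAffineHom) _ _ (isAffineHom_of_isAffine _)

theorem isFormallySmoothHom_of_representableBy {F G : (Over S)ᵒᵖ ⥤ Type u} {ZX ZY : Over S}
    (eX : F.RepresentableBy ZX) (eY : G.RepresentableBy ZY) (φ : F ⟶ G) (j : ZX ⟶ ZY)
    (hj : ∀ (T : Over S) (z : T ⟶ ZX), eY.homEquiv (z ≫ j) = φ.app (op T) (eX.homEquiv z))
    (hlift : ∀ (A : Type u) [CommRing A] (I : Ideal A), I ^ 2 = ⊥ → ∀ (str : Spec (CommRingCat.of A) ⟶ S)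
      (x : F.obj (op (Over.mk (Spec.map (CommRingCat.ofHom (Ideal.Quotient.mk I)) ≫ str))))
      (y : G.obj (op (Over.mk str))),
      φ.app _ x = G.map (Over.homMk (Spec.map (CommRingCat.ofHom (Ideal.Quotient.mk I))) rfl :
        Over.mk (Spec.map (CommRingCat.ofHom (Ideal.Quotient.mk I)) ≫ str) ⟶ Over.mk str).op y →
      ∃ l : F.obj (op (Over.mk str)), F.map (Over.homMk (Spec.map (CommRingCat.ofHom (Ideal.Quotient.mk I))) rfl :
          Over.mk (Spec.map (CommRingCat.ofHom (Ideal.Quotient.mk I)) ≫ str) ⟶ Over.mk str).op l = x ∧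
        φ.app _ l = y) :
    MoreMor.IsFormallySmoothHom j.left := by
  intro A _ I hI a b w
  let t : Over.mk (Spec.map (CommRingCat.ofHom (Ideal.Quotient.mk I)) ≫ b ≫ ZY.hom) ⟶ Over.mk (b ≫ ZY.hom) :=
    Over.homMk (Spec.map (CommRingCat.ofHom (Ideal.Quotient.mk I))) rfl
  let bO : Over.mk (b ≫ ZY.hom) ⟶ ZY := Over.homMk b rfl
  let aO : Over.mk (Spec.map (CommRingCat.ofHom (Ideal.Quotient.mk I)) ≫ b ≫ ZY.hom) ⟶ ZX :=
    Over.homMk a (by
      show a ≫ ZX.hom = Spec.map (CommRingCat.ofHom (Ideal.Quotient.mk I)) ≫ b ≫ ZY.hom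
      rw [← Over.w j, ← Category.assoc, ← w, Category.assoc])
  have e : aO ≫ j = t ≫ bO := Over.OverMorphism.ext w.symm
  obtain ⟨l, h1, h2⟩ := hlift A I hI (b ≫ ZY.hom) (eX.homEquiv aO) (eY.homEquiv bO) (by
    rw [← hj, e, eY.homEquiv_comp])
  obtain ⟨z, rfl⟩ := eX.homEquiv.surjective l
  have e1 : t ≫ z = aO := eX.homEquiv.injective ((eX.homEquiv_comp t z).trans h1)
  have e2 : z ≫ j = bO := eY.homEquiv.injective ((hj _ z).trans h2)
  exact ⟨z.left, congrArg Over.Hom.left e1, congrArg Over.Hom.left e2⟩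

/-- The trivial action on the final object has a one-point attractor. -/
noncomputable def attrUnit {B : Over S} (ρ : MonAct (AMonS S M) B) :
    (MonAct.eqvHom ρ (MonAct.trivial (AMonS S M) (𝟙_ (Over S)))).RepresentableBy (𝟙_ (Over S)) where
  homEquiv {T} :=
    { toFun := fun _ => ⟨toUnit _, toUnit_unique _ _⟩
      invFun := fun _ => toUnit T
      left_inv := fun _ => toUnit_unique _ _
      right_inv := fun _ => Subtype.ext (toUnit_unique _ _) }
  homEquiv_comp _ _ := Subtype.ext (toUnit_unique _ _)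

theorem toUnit_left (X : Over S) : (toUnit X).left = X.hom :=
  (Category.comp_id _).symm.trans (Over.w (toUnit X))

/-- Attractors of schemes locally of finite presentation are locally of finite presentation. -/
theorem locallyOfFinitePresentation_attr {X Z : Over S} [LocallyOfFinitePresentation X.hom]
    (aX : MonAct (AMonS S M) X) (N : AddSubmonoid M) (e : (attr aX N).RepresentableBy Z) :
    LocallyOfFinitePresentation Z.hom := by
  haveI := isAffineHom_AMonS (S := S) M
  haveI := isAffineHom_AMonS (S := S) N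
  haveI : LocallyOfFinitePresentation (toUnit X).left := by rw [toUnit_left]; infer_instance
  rw [← toUnit_left Z]
  exact LimPres.locallyOfFinitePresentation_of_representableBy (subAct S M N) aX
    (MonAct.trivial (AMonS S M) (𝟙_ (Over S))) (toUnit X) (toUnit_unique _ _) e (attrUnit _) (toUnit Z)
    (fun T z => Subtype.ext (toUnit_unique _ _))

theorem smooth_postcomp {N : AddSubmonoid M} {X Y : Over S} (aX : MonAct (AMonS S M) X) (aY : MonAct (AMonS S M) Y)
    (f : X ⟶ Y) (hf : MonAct.IsEquivariant aX aY f) [Smooth f.left] {ZX ZY : Over S}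
    (eX : (attr aX N).RepresentableBy ZX) (eY : (attr aY N).RepresentableBy ZY) (j : ZX ⟶ ZY)
    (hj : ∀ (T : Over S) (z : T ⟶ ZX),
      eY.homEquiv (z ≫ j) = (MonAct.eqvHom.postcomp (subAct S M N) f hf).app (op T) (eX.homEquiv z)) :
    Smooth j.left := by
  haveI := isAffineHom_AMonS (S := S) M
  haveI := isAffineHom_AMonS (S := S) N
  refine (Groth.Agent.S1488.result j.left).mpr
    ⟨LimPres.locallyOfFinitePresentation_of_representableBy (subAct S M N) aX aY f hf eX eY j hj,
      isFormallySmoothHom_of_representableBy eX eY _ j hj fun A _ I hI str x y h => ?_⟩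
  have hk : RingHom.ker (Ideal.Quotient.mk I) ^ 2 = ⊥ := by rw [Ideal.mk_ker]; exact hI
  haveI : IsAffine (Over.mk str).left := inferInstanceAs (IsAffine (Spec _))
  haveI : IsAffine (Over.mk (Spec.map (CommRingCat.ofHom (Ideal.Quotient.mk I)) ≫ str)).left :=
    inferInstanceAs (IsAffine (Spec _))
  obtain ⟨l, hl, h1, h2⟩ := hasLift aX aY f hf
    (Over.homMk (Spec.map (CommRingCat.ofHom (Ideal.Quotient.mk I))) rfl :
      Over.mk (Spec.map (CommRingCat.ofHom (Ideal.Quotient.mk I)) ≫ str) ⟶ Over.mk str)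
    (appTop_SpecMap_surjective _ Ideal.Quotient.mk_surjective) (appTop_SpecMap_sq _ hk) x.1 x.2 y.1 y.2
    (congrArg Subtype.val h)
  exact ⟨⟨l, hl⟩, Subtype.ext h1, Subtype.ext h2⟩

theorem smooth_face {N F : AddSubmonoid M} (hF : IsFace N F) {X : Over S} [Smooth X.hom]
    (a : MonAct (AMonS S M) X) {ZN ZF : Over S} (eN : (attr a N).RepresentableBy ZN)
    (eF : (attr a F).RepresentableBy ZF) (j : ZN ⟶ ZF)
    (hj : ∀ (T : Over S) (z : T ⟶ ZN), eF.homEquiv (z ≫ j) = (attrFace a hF).app (op T) (eN.homEquiv z)) :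
    Smooth j.left := by
  haveI := locallyOfFinitePresentation_attr a N eN
  haveI := locallyOfFinitePresentation_attr a F eF
  haveI : LocallyOfFinitePresentation (j.left ≫ ZF.hom) := by rw [Over.w]; infer_instance
  haveI : LocallyOfFiniteType ZF.hom := inferInstance
  refine (Groth.Agent.S1488.result j.left).mpr
    ⟨Groth.Agent.S12442.locallyOfFinitePresentation_of_comp j.left ZF.hom,
      isFormallySmoothHom_of_representableBy eN eF _ j hj fun A _ I hI str x y h => ?_⟩
  have hk : RingHom.ker (Ideal.Quotient.mk I) ^ 2 = ⊥ := by rw [Ideal.mk_ker]; exact hI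
  haveI : IsAffine (Over.mk str).left := inferInstanceAs (IsAffine (Spec _))
  haveI : IsAffine (Over.mk (Spec.map (CommRingCat.ofHom (Ideal.Quotient.mk I)) ≫ str)).left :=
    inferInstanceAs (IsAffine (Spec _))
  obtain ⟨l, hl, h1, h2⟩ := face_hasLift hF a
    (Over.homMk (Spec.map (CommRingCat.ofHom (Ideal.Quotient.mk I))) rfl :
      Over.mk (Spec.map (CommRingCat.ofHom (Ideal.Quotient.mk I)) ≫ str) ⟶ Over.mk str)
    (appTop_SpecMap_surjective _ Ideal.Quotient.mk_surjective) (appTop_SpecMap_sq _ hk) x.1 x.2 y.1 y.2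
    (congrArg Subtype.val h)
  exact ⟨⟨l, hl⟩, Subtype.ext h1, Subtype.ext h2⟩

end Groth.Agent.MagnetLib.Avg
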